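import Groth.Agent.EtAlg.K364.Kummer
import Groth.Agent.CycCov.K926.LocB
import Mathlib.FieldTheory.IsAlgClosed.AlgebraicClosure

/-!
# Fields generated by roots: existence and degree
-/

set_option autoImplicit false

universe u

open Polynomial

namespace K27.KumField

/-- The degree of a simple root extension divides the exponent. -/
theorem finrank_dvd_one {k K L : Type u} [Field k] [IsAlgClosed k] [Field K] [Field L] [Algebra k K] [Algebra K L]
    {N : ℕ} (hN : (N : k) ≠ 0) (γ : K) (ρ : L) (hρ : ρ ^ N = algebraMap K L γ)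
    (hgen : Algebra.adjoin K {ρ} = ⊤) : Module.finrank K L ∣ N := by
  have hN0 : N ≠ 0 := by rintro rfl; exact hN Nat.cast_zero
  by_cases hγ : γ = 0
  · rw [hγ, map_zero] at hρ
    have h0 : ρ = 0 := eq_zero_of_pow_eq_zero hρ
    rw [h0] at hgen
    have h1 : Algebra.adjoin K {(0 : L)} = ⊥ := by
      rw [eq_bot_iff]
      apply Algebra.adjoin_le
      rintro _ rfl
      exact zero_mem _
    have h2 : (⊥ : Subalgebra K L) = ⊤ := h1.symm.trans hgen
    rw [Subalgebra.bot_eq_top_iff_finrank_eq_one.mp h2]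
    exact one_dvd _
  · obtain ⟨ζ, hζ, -, -⟩ := K926.Loc.exists_zeta (Nat.pos_of_ne_zero hN0) hN
    have hζK : IsPrimitiveRoot (algebraMap k K ζ) N := hζ.map_of_injective (algebraMap k K).injective
    have hNK : (N : K) ≠ 0 := by
      rw [← map_natCast (algebraMap k K), Ne, map_eq_zero]
      exact hN
    have hg : IntermediateField.adjoin K {ρ} = ⊤ := by
      rw [eq_top_iff]
      intro y _
      have hy : y ∈ Algebra.adjoin K {ρ} := by rw [hgen]; trivial
      exact IntermediateField.algebra_adjoin_le_adjoin K {ρ} hy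
    exact (K364.Kummer.kummer_pow N hNK _ hζK γ hγ ρ hρ hg).2.2.1

/-- The degree of an extension generated by roots divides the product of the exponents. -/
theorem finrank_dvd {k : Type u} [Field k] [IsAlgClosed k] (m : ℕ) : ∀ {K L : Type u} [Field K] [Field L]
    [Algebra k K] [Algebra K L] (N : Fin m → ℕ) (_ : ∀ i, (N i : k) ≠ 0) (γ : Fin m → K) (ρ : Fin m → L)
    (_ : ∀ i, ρ i ^ N i = algebraMap K L (γ i)) (_ : Algebra.adjoin K (Set.range ρ) = ⊤),
    FiniteDimensional K L ∧ Module.finrank K L ∣ ∏ i, N i := by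
  induction m with
  | zero =>
    intro K L _ _ _ _ N hN γ ρ hρ hgen
    have h1 : (⊥ : Subalgebra K L) = ⊤ := by
      rw [← hgen, eq_comm, eq_bot_iff]
      apply Algebra.adjoin_le
      rintro _ ⟨i, -⟩
      exact i.elim0
    have h2 := Subalgebra.bot_eq_top_iff_finrank_eq_one.mp h1
    refine ⟨Module.finite_of_finrank_eq_succ h2, ?_⟩
    rw [h2]
    exact one_dvd _
  | succ m ih =>
    intro K L _ _ _ _ N hN γ ρ hρ hgen
    have hN0 : N 0 ≠ 0 := fun h => hN 0 (by rw [h, Nat.cast_zero])
    have hint : IsIntegral K (ρ 0) := by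
      refine ⟨X ^ N 0 - Polynomial.C (γ 0), monic_X_pow_sub_C _ hN0, ?_⟩
      rw [eval₂_sub, eval₂_X_pow, eval₂_C, hρ, sub_self]
    let L₁ : IntermediateField K L := IntermediateField.adjoin K {ρ 0}
    let ρ₁ : L₁ := IntermediateField.AdjoinSimple.gen K (ρ 0)
    have hfd : FiniteDimensional K L₁ := IntermediateField.adjoin.finiteDimensional hint
    have hρ₁ : algebraMap L₁ L ρ₁ = ρ 0 := rfl
    have hgen₁ : Algebra.adjoin K {ρ₁} = ⊤ := by
      have h1 := (IntermediateField.adjoin.powerBasis hint).adjoin_gen_eq_top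
      rwa [IntermediateField.adjoin.powerBasis_gen] at h1
    have hρ₁' : ρ₁ ^ N 0 = algebraMap K L₁ (γ 0) := by
      apply (algebraMap L₁ L).injective
      rw [map_pow, hρ₁, hρ, ← IsScalarTower.algebraMap_apply]
    have h1 := finrank_dvd_one (hN 0) (γ 0) ρ₁ hρ₁' hgen₁
    let _ : Algebra k L₁ := ((algebraMap K L₁).comp (algebraMap k K)).toAlgebra
    obtain ⟨h2, h3⟩ := ih (K := L₁) (L := L) (fun i => N i.succ) (fun i => hN _)
      (fun i => algebraMap K L₁ (γ i.succ)) (fun i => ρ i.succ)
      (fun i => by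
        rw [hρ, ← IsScalarTower.algebraMap_apply])
      (by
        rw [eq_top_iff]
        intro y _
        have hy : y ∈ Algebra.adjoin K (Set.range ρ) := by rw [hgen]; trivial
        have hle : Algebra.adjoin K (Set.range ρ) ≤
            (Algebra.adjoin L₁ (Set.range fun i : Fin m => ρ i.succ)).restrictScalars K := by
          apply Algebra.adjoin_le
          rintro _ ⟨i, rfl⟩
          cases i using Fin.cases with
          | zero => exact (Algebra.adjoin L₁ (Set.range fun i : Fin m => ρ i.succ)).algebraMap_mem ρ₁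
          | succ i => exact Algebra.subset_adjoin ⟨i, rfl⟩
        exact hle hy)
    refine ⟨FiniteDimensional.trans K L₁ L, ?_⟩
    rw [← Module.finrank_mul_finrank K L₁ L, Fin.prod_univ_succ]
    exact mul_dvd_mul h1 h3

/-- Existence of the field generated by prescribed roots. -/
theorem exists_field {k K : Type u} [Field k] [IsAlgClosed k] [Field K] [Algebra k K] (m : ℕ) (N : Fin m → ℕ)
    (hN : ∀ i, (N i : k) ≠ 0) (γ : Fin m → K) :
    ∃ (L : Type u) (_ : Field L) (_ : Algebra K L) (R : Fin m → L), (∀ i, R i ^ N i = algebraMap K L (γ i)) ∧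
      Algebra.adjoin K (Set.range R) = ⊤ ∧ FiniteDimensional K L ∧ Module.finrank K L ∣ ∏ i, N i := by
  have hN0 : ∀ i, 0 < N i := fun i => Nat.pos_of_ne_zero fun h => hN i (by rw [h, Nat.cast_zero])
  choose a ha using fun i => IsAlgClosed.exists_pow_nat_eq (algebraMap K (AlgebraicClosure K) (γ i)) (hN0 i)
  let L := IntermediateField.adjoin K (Set.range a)
  let R : Fin m → L := fun i => ⟨a i, IntermediateField.subset_adjoin K _ ⟨i, rfl⟩⟩
  have hR : ∀ i, R i ^ N i = algebraMap K L (γ i) := fun i => Subtype.ext (ha i)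
  have hgen : Algebra.adjoin K (Set.range R) = ⊤ := by
    rw [eq_top_iff]
    intro y _
    have h1 : (y : AlgebraicClosure K) ∈ Algebra.adjoin K (Set.range a) := by
      rw [← IntermediateField.adjoin_toSubalgebra]
      exact y.2
    have h2 : (Algebra.adjoin K (Set.range R)).map L.val = Algebra.adjoin K (Set.range a) := by
      rw [AlgHom.map_adjoin, ← Set.range_comp]
      rfl
    rw [← h2] at h1
    obtain ⟨z, hz, hzy⟩ := h1
    have h3 : z = y := Subtype.ext hzy
    rw [← h3]
    exact hz
  obtain ⟨h1, h2⟩ := finrank_dvd m N hN γ R hR hgen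
  exact ⟨L, inferInstance, inferInstance, R, hR, hgen, h1, h2⟩

end K27.KumField
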