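import Groth.Agent.CycCov.K27.LocalChart
import Groth.Agent.CycCov.K27.KumField
import Groth.Agent.Vanish.K27.NcdBound

/-!
# Kawamata's covering
-/

set_option autoImplicit false
universe u

open CategoryTheory CategoryTheory.Limits AlgebraicGeometry Opposite TopologicalSpace
open Groth.Agent.Fdesc.LocGen K926.Frame K926.Str K27.Generic

namespace K27.Kaw

/-- The Kummer extension of the function field with Kummer charts everywhere. -/
theorem exists_kummer {k : Type u} [Field k] [IsAlgClosed k] {X : Scheme.{u}} [IsIntegral X] [QuasiSeparatedSpace X]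
    (f : X ⟶ Spec (CommRingCat.of k)) [Smooth f] {A : X.Modules} (hAmp : CohB1.IsAmple A) {r : ℕ}
    {D : Fin r → X.IdealSheafData} (hD : LogNCD.IsNCD D f) (Nj : Fin r → ℕ) (hNk : ∀ j, (Nj j : k) ≠ 0)
    {B : X.Modules} (hB : PicF.IsInvertible B) {N : ℕ} (hN : (N : k) ≠ 0) (α : Fin r → ℕ)
    (t : Coh.structureModule X ⟶ CohB1.tensorPow B N)
    (ht : CycCov.IsZeroDiv (CohB1.tensorPow B N) t (CycCov.divIdeal D α)) (hα : ∀ j, α j ≠ 0 → Nj j = N)
    {U₀ : X.Opens} [Nonempty U₀] {e₀ : Γ(A, U₀)} (he₀ : IsGen e₀)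
    {b₀ : Γ(B, U₀)} (hb₀ : IsGen b₀) (γt : Γ(X, U₀)) (hγt : sec t U₀ = γt • lp b₀ N) :
    ∃ (L : Type u) (_ : Field L) (_ : Algebra X.functionField L) (S : L), FiniteDimensional X.functionField L ∧
      S ^ N = algebraMap X.functionField L (algebraMap Γ(X, U₀) X.functionField γt) ∧
      (∀ x, KumCover.HasChart f L D Nj x) ∧
      ∃ M : ℕ, Module.finrank X.functionField L ∣ (∏ j, Nj j) ^ M * N := by
  let _ : X.Over (Spec (CommRingCat.of k)) := ⟨f⟩
  have hsm : Smooth (X ↘ Spec (CommRingCat.of k)) := inferInstanceAs (Smooth f)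
  have hcomp : CompactSpace X := hAmp.2.1
  obtain ⟨d, hd⟩ := K27.NcdBound.exists_bound (k := k) (X := X)
  have hNj : ∀ j, Nj j ≠ 0 := fun j h => hNk j (by rw [h, Nat.cast_zero])
  let n := r * (d + 1)
  let a : Fin n → Fin r := fun i => (finProdFinEquiv.symm i).1
  have hpos : 0 < ∏ j, Nj j := Finset.prod_pos fun j _ => Nat.pos_of_ne_zero (hNj j)
  obtain ⟨P, s, E, hP, hDE, hs⟩ := K27.Members.exists_sections (k := k) hAmp hD n (∏ j, Nj j) hpos a
  have hdvd : ∀ j, Nj j ∣ P := fun j => (Finset.dvd_prod_of_mem Nj (Finset.mem_univ j)).trans hP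
  choose q hq using hdvd
  have hcov : ∀ (x : X) (j : Fin r), ∃ i, a i = j ∧ x ∉ (E i).support := by
    intro x j
    by_contra hcon
    push Not at hcon
    have h1 := hd (r + n) (Fin.append D E) hDE x (d + 1) (fun l => Fin.natAdd r (finProdFinEquiv (j, l)))
      (fun l l' h => by
        have h2 := finProdFinEquiv.injective (Fin.natAdd_injective _ _ h)
        exact congrArg Prod.snd h2)
      (fun l => by
        rw [Fin.append_right]
        exact hcon _ (by simp only [a, Equiv.symm_apply_apply]))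
    omega
  choose γ hγ using fun i => exists_coord he₀ (s i)
  let _ : Algebra k X.functionField := ((algebraMap Γ(X, U₀) X.functionField).comp (str f U₀)).toAlgebra
  obtain ⟨L, _, _, R', hR', hgen, hfd, hdeg⟩ := K27.KumField.exists_field (k := k) (K := X.functionField) (n + 1)
    (Fin.snoc (α := fun _ => ℕ) (fun i => Nj (a i)) N) (fun i => by
      refine Fin.lastCases ?_ (fun i => ?_) i
      · rw [Fin.snoc_last]; exact hN
      · rw [Fin.snoc_castSucc]; exact hNk _)
    (Fin.snoc (α := fun _ => X.functionField) (fun i => algebraMap Γ(X, U₀) X.functionField (γ i))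
      (algebraMap Γ(X, U₀) X.functionField γt))
  have hS : R' (Fin.last n) ^ N = algebraMap X.functionField L (algebraMap Γ(X, U₀) X.functionField γt) := by
    have := hR' (Fin.last n)
    rwa [Fin.snoc_last, Fin.snoc_last] at this
  have hR : ∀ i, R' (Fin.castSucc i) ^ Nj (a i) =
      algebraMap X.functionField L (algebraMap Γ(X, U₀) X.functionField (γ i)) := fun i => by
    have := hR' (Fin.castSucc i)
    rwa [Fin.snoc_castSucc, Fin.snoc_castSucc] at this
  have hgen' : Algebra.adjoin X.functionField (Set.range (fun i => R' (Fin.castSucc i)) ∪ {R' (Fin.last n)}) = ⊤ := by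
    rw [eq_top_iff, ← hgen]
    apply Algebra.adjoin_mono
    rintro _ ⟨i, rfl⟩
    refine Fin.lastCases ?_ (fun i => ?_) i
    · exact Or.inr rfl
    · exact Or.inl ⟨i, rfl⟩
  refine ⟨L, inferInstance, inferInstance, R' (Fin.last n), hfd, hS, fun x => ?_, d + 1, ?_⟩
  · exact K27.LocalChart.hasChart f hAmp.1 hDE s a hs Nj hNk q (fun j => by rw [hq j, mul_comm]) (hcov x) he₀ γ hγ hB
      hN α t ht hα hb₀ γt hγt _ hR _ hS hgen'
  · convert hdeg using 1
    rw [Fin.prod_univ_castSucc, Fin.snoc_last]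
    congr 1
    simp only [Fin.snoc_castSucc]
    rw [← Finset.prod_pow]
    have h3 : ∏ i : Fin n, Nj (a i) = ∏ p : Fin r × Fin (d + 1), Nj p.1 := by
      rw [← Equiv.prod_comp (finProdFinEquiv (m := r) (n := d + 1)).symm (fun p => Nj p.1)]
    rw [h3, Fintype.prod_prod_type]
    refine Finset.prod_congr rfl fun j _ => ?_
    change _ = ∏ _y : Fin (d + 1), Nj j
    rw [Finset.prod_const, Finset.card_univ, Fintype.card_fin]

end K27.Kaw
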