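import Groth.Agent.CycCov.K926.LocW
import Groth.Agent.Vanish.K27.Crit

/-!
# Étale coordinates adapted to prescribed equations of a normal crossing divisor
-/

set_option autoImplicit false
universe u

open CategoryTheory CategoryTheory.Limits AlgebraicGeometry Opposite TopologicalSpace
open Groth.Agent.Fdesc.LocGen
open Groth.Agent.CurvesC.NodeEt K926.Str K926.Loc

namespace K27.Adapted

/-- Determinant of the Jacobian matrix of rescaled coordinates at a prime. -/
theorem det_notMem {k B : Type u} [Field k] [CommRing B] [Algebra k B] {n : ℕ} {x : Fin n → B}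
    (hx : IsEtaleCoord k x) (b : Fin n → B) (p : Ideal B) [hp : p.IsPrime] (hb : ∀ j, b j ∉ p)
    (hb' : ∀ j, x j ∈ p ∨ b j = 1) : (Matrix.of fun i j => hx.pd i (b j * x j)).det ∉ p := by
  intro h
  have h1 : (Ideal.Quotient.mk p) ((Matrix.of fun i j => hx.pd i (b j * x j)).det) = 0 :=
    Ideal.Quotient.eq_zero_iff_mem.mpr h
  rw [RingHom.map_det] at h1
  have h2 : (Ideal.Quotient.mk p).mapMatrix (Matrix.of fun i j => hx.pd i (b j * x j)) =
      Matrix.diagonal (fun j => Ideal.Quotient.mk p (b j)) := by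
    ext i j
    rw [RingHom.mapMatrix_apply, Matrix.map_apply, Matrix.of_apply, Derivation.leibniz, hx.pd_coord,
      Matrix.diagonal_apply, smul_eq_mul, smul_eq_mul, map_add, map_mul, map_mul]
    rcases hb' j with h3 | h3
    · rw [Ideal.Quotient.eq_zero_iff_mem.mpr h3, zero_mul, add_zero]
      by_cases hij : i = j
      · subst hij
        simp
      · simp [hij]
    · rw [h3]
      by_cases hij : i = j
      · subst hij
        simp [h3]
      · simp [hij]
  rw [h2, Matrix.det_diagonal] at h1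
  have h3 : (∏ j, b j) ∈ p := by
    rw [← Ideal.Quotient.eq_zero_iff_mem, map_prod]
    exact h1
  obtain ⟨j, -, hj⟩ := (Ideal.IsPrime.prod_mem_iff (hp := hp)).mp h3
  exact hb j hj

variable {k : Type u} [Field k] {X : Scheme.{u}}

/-- **Adapted coordinates.** Around a point there are étale coordinates such that every prescribed equation of a
component of a normal crossing divisor is a unit or one of the coordinates. -/
theorem exists_adapted (f : X ⟶ Spec (CommRingCat.of k)) [Smooth f] [IsIntegral X] {R : ℕ}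
    {𝒟 : Fin R → X.IdealSheafData} (h𝒟 : LogNCD.IsNCD 𝒟 f) (U : X.affineOpens) (x : X) (hx : x ∈ U.1)
    (t : Fin R → Γ(X, U.1)) (ht : ∀ i, (𝒟 i).ideal U = Ideal.span {t i}) :
    ∃ (W : X.affineOpens) (h : W.1 ≤ U.1) (n : ℕ) (v : Fin n → Γ(X, W.1)) (e : Fin R → Option (Fin n)),
      x ∈ W.1 ∧ IsCoord f W.1 v ∧ (∀ i i' j, e i = some j → e i' = some j → i = i') ∧
      (∀ i, e i = none → IsUnit (ores h (t i))) ∧ ∀ i j, e i = some j → ores h (t i) = v j := by
  classical
  obtain ⟨U₁, n, c, hxU₁, hU₁⟩ := K922.Chart.exists_chart h𝒟 hx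
  obtain ⟨W₁, hW₁, c', hxW₁, -, he, -⟩ := exists_normalized c hxU₁
  obtain ⟨W, hWW₁, -, hxW, hcoord⟩ := exists_isCoord_res c'.coord (le_refl _) hxW₁
  set c₂ := c'.restrict hWW₁ with hc₂
  have hne : Nonempty W.1 := ⟨⟨x, hxW⟩⟩
  have hWU : W.1 ≤ U.1 := hWW₁.trans (hW₁.trans hU₁)
  have hsp : ∀ i, Ideal.span {c₂.g i} = Ideal.span {ores hWU (t i)} := by
    intro i
    have h1 : (𝒟 i).ideal W = Ideal.span {c₂.g i} := by
      rw [c₂.ideal i W le_rfl, Groth.Agent.Sga67.Sec.resO_self]
    rw [← h1]
    exact K27.Crit.ideal_res (𝒟 i) hWU (t i) (ht i)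
  choose a ha using fun i => Ideal.span_singleton_eq_span_singleton.mp (hsp i)
  let b : Fin n → Γ(X, W.1) := fun j => if h : ∃ i, c₂.e i = some j then (a h.choose : Γ(X, W.1)) else 1
  have hb : ∀ i j, c₂.e i = some j → b j = a i := by
    intro i j hij
    have h : ∃ i, c₂.e i = some j := ⟨i, hij⟩
    simp only [b, dif_pos h]
    rw [c₂.inj _ _ _ h.choose_spec hij]
  have hbu : ∀ j, IsUnit (b j) := by
    intro j
    by_cases h : ∃ i, c₂.e i = some j
    · simp only [b, dif_pos h]
      exact (a h.choose).isUnit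
    · simp only [b, dif_neg h]
      exact isUnit_one
  let _ : Algebra k Γ(X, W.1) := algk f W.1
  have hv : IsEtaleCoord k c₂.v := hcoord
  let p := (W.2.primeIdealOf ⟨x, hxW⟩).asIdeal
  have hdet := det_notMem hv b p (fun j hj => (Ideal.IsPrime.ne_top inferInstance)
      (Ideal.eq_top_of_isUnit_mem _ hj (hbu j))) (fun j => by
    by_cases h : ∃ i, c₂.e i = some j
    · left
      obtain ⟨i, hi⟩ := h
      have hxi : x ∈ (𝒟 i).support := by
        by_contra h0
        have h3 : c₂.e i = none := (he i).1 h0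
        rw [h3] at hi
        cases hi
      have h1 : (𝒟 i).ideal W = Ideal.span {c₂.g i} := by
        rw [c₂.ideal i W le_rfl, Groth.Agent.Sga67.Sec.resO_self]
      rw [K922.Chart.mem_support_iff_span (𝒟 i) W _ h1 x hxW, K27.Crit.mem_basicOpen_iff W hxW, not_not,
        c₂.g_some i j hi] at hxi
      exact hxi
    · right
      simp only [b, dif_neg h])
  set g := (Matrix.of fun i j => hv.pd i (b j * c₂.v j)).det with hg
  have hxg : x ∈ X.basicOpen g := (K27.Crit.mem_basicOpen_iff W hxW g).mpr hdet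
  let G : X.affineOpens := ⟨X.basicOpen g, W.2.basicOpen g⟩
  have hGW : G.1 ≤ W.1 := X.basicOpen_le g
  let _ : Algebra k Γ(X, G.1) := algk f G.1
  have hvG := hv.comp (oresAlg f hGW) (etale_ores hGW)
  have hnew : IsEtaleCoord k (fun j => ores hGW (b j * c₂.v j)) := by
    apply hvG.of_isUnit_det
    have h1 : (Matrix.of fun i j => hvG.pd i (ores hGW (b j * c₂.v j))) =
        (ores hGW).mapMatrix (Matrix.of fun i j => hv.pd i (b j * c₂.v j)) := by
      ext i j
      rw [RingHom.mapMatrix_apply, Matrix.map_apply, Matrix.of_apply, Matrix.of_apply]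
      exact K926.Coord.pd_comp hv (oresAlg f hGW) (etale_ores hGW) i _
    rw [h1, ← RingHom.map_det]
    exact RingedSpace.isUnit_res_basicOpen X.toRingedSpace g
  refine ⟨G, hGW.trans hWU, n, fun j => ores hGW (b j * c₂.v j), c₂.e, hxg, hnew, c₂.inj, ?_, ?_⟩
  · intro i hi
    have h1 := ha i
    rw [c₂.g_none i hi, one_mul] at h1
    rw [← ores_ores hWU hGW, ← h1]
    exact (a i).isUnit.map _
  · intro i j hij
    have h1 := ha i
    rw [c₂.g_some i j hij, ← hb i j hij, mul_comm] at h1
    rw [← ores_ores hWU hGW, ← h1]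

end K27.Adapted
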