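import Groth.Agent.CycCov.K926.Cov
import Mathlib.RingTheory.Localization.FractionRing

/-!
# Maps from a normalised cyclic cover to a field
-/

set_option autoImplicit false
universe u

open Polynomial

namespace K27.CovLift

open K926.Cov

variable {B C L : Type u} [CommRing B] [IsDomain B] [CommRing C] [Algebra B C] [Field L] [Algebra B L]
  {N : ℕ} {f : B} {t : C}

/-- A root of `f` in an extension of the fraction field defines a map from the cyclic cover. -/
theorem exists_lift (hBL : Function.Injective (algebraMap B L)) (h : IsCov N f t) (hN : 0 < N) (S : L) (hS : S ^ N = algebraMap B L f) :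
    ∃ ψ : C →ₐ[B] L, ψ t = S := by
  let Q := AdjoinRoot (X ^ N - Polynomial.C f)
  let χ : Q →+* C := AdjoinRoot.lift (algebraMap B C) t (by
    rw [eval₂_sub, eval₂_X_pow, eval₂_C, h.pow, sub_self])
  have hχ : ∀ p : B[X], χ (AdjoinRoot.mk _ p) = aeval t p := fun p => AdjoinRoot.lift_mk _ _
  have hχi : Function.Injective χ := by
    rw [injective_iff_map_eq_zero]
    intro q hq
    obtain ⟨p, rfl⟩ := AdjoinRoot.mk_surjective q
    rw [hχ] at hq
    exact AdjoinRoot.mk_eq_zero.mpr (h.chart_injective hN p hq)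
  let M := Algebra.algebraMapSubmonoid C (nonZeroDivisors B)
  let CK := Localization M
  have hMC : Function.Injective (algebraMap C CK) := by
    apply IsLocalization.injective (M := M) CK
    rintro _ ⟨b, hb, rfl⟩
    rw [mem_nonZeroDivisors_iff]
    refine ⟨fun c hc => h.tors b c (nonZeroDivisors.ne_zero hb) hc,
      fun c hc => h.tors b c (nonZeroDivisors.ne_zero hb) (by rw [mul_comm]; exact hc)⟩
  let _ : Algebra Q CK := ((algebraMap C CK).comp χ).toAlgebra
  have hQC : ∀ q, algebraMap Q CK q = algebraMap C CK (χ q) := fun q => rfl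
  have hof : ∀ b : B, χ (algebraMap B Q b) = algebraMap B C b := fun b => AdjoinRoot.lift_of _
  let M' := Algebra.algebraMapSubmonoid Q (nonZeroDivisors B)
  have hloc : IsLocalization M' CK := by
    refine ⟨?_, ?_, ?_⟩
    · rintro ⟨_, b, hb, rfl⟩
      change IsUnit (algebraMap C CK (χ (algebraMap B Q b)))
      rw [hof]
      exact IsLocalization.map_units CK (⟨_, b, hb, rfl⟩ : M)
    · intro z
      obtain ⟨⟨c, ⟨_, b, hb, rfl⟩⟩, hz⟩ := IsLocalization.surj M z
      obtain ⟨b', hb', p, hp⟩ := h.gen c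
      refine ⟨⟨AdjoinRoot.mk _ p, ⟨algebraMap B Q (b * b'), b * b',
        mul_mem hb (mem_nonZeroDivisors_of_ne_zero hb'), rfl⟩⟩, ?_⟩
      change z * algebraMap C CK (χ (algebraMap B Q (b * b'))) = algebraMap C CK (χ (AdjoinRoot.mk _ p))
      rw [hof, hχ, ← hp, map_mul, map_mul, ← mul_assoc, map_mul, mul_comm (algebraMap C CK (algebraMap B C b'))]
      exact congrArg (· * algebraMap C CK (algebraMap B C b')) hz
    · intro q q' hqq
      refine ⟨1, ?_⟩
      rw [hχi (hMC hqq)]
  have hev : (X ^ N - Polynomial.C f).eval₂ (algebraMap B L) S = 0 := by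
    rw [eval₂_sub, eval₂_X_pow, eval₂_C, hS, sub_self]
  let α : Q →+* L := AdjoinRoot.lift (algebraMap B L) S hev
  have hα : ∀ b, α (algebraMap B Q b) = algebraMap B L b := fun b => AdjoinRoot.lift_of _
  have hunit : ∀ s : M', IsUnit (α s) := by
    rintro ⟨_, b, hb, rfl⟩
    change IsUnit (α (algebraMap B Q b))
    rw [hα]
    exact IsUnit.mk0 _ ((map_ne_zero_iff _ hBL).mpr (nonZeroDivisors.ne_zero hb))
  let β : CK →+* L := IsLocalization.lift hunit
  have hβ : ∀ q, β (algebraMap C CK (χ q)) = α q := fun q => IsLocalization.lift_eq hunit q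
  refine ⟨{ β.comp (algebraMap C CK) with
    commutes' := fun b => ?_ }, ?_⟩
  · change β (algebraMap C CK (algebraMap B C b)) = _
    rw [← hof, hβ, hα]
  · change β (algebraMap C CK t) = S
    have h1 : χ (AdjoinRoot.root _) = t := AdjoinRoot.lift_root _
    rw [← h1, hβ]
    exact AdjoinRoot.lift_root hev

/-- The maps defined by all the roots are jointly injective. -/
theorem eq_zero_of_forall (hBL : Function.Injective (algebraMap B L)) (h : IsCov N f t) (hN : 0 < N) (S : L) (hS0 : S ≠ 0) {ζ : L} (hζ : IsPrimitiveRoot ζ N)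
    (ψ : Fin N → (C →ₐ[B] L)) (hψ : ∀ i, ψ i t = ζ ^ (i : ℕ) * S) (c : C) (hc : ∀ i, ψ i c = 0) : c = 0 := by
  classical
  obtain ⟨b, hb, q, hq⟩ := h.gen c
  obtain ⟨p, hp, hpq, -⟩ := h.exists_degree_lt hN q
  rw [← hpq] at hq
  have h1 : ∀ i : Fin N, (p.map (algebraMap B L)).eval (ζ ^ (i : ℕ) * S) = 0 := by
    intro i
    have h2 := congrArg (ψ i) hq
    rw [map_mul, hc i, mul_zero, ← Polynomial.aeval_algHom_apply, hψ] at h2
    rw [Polynomial.eval_map_algebraMap]
    exact h2.symm
  have h3 : p.map (algebraMap B L) = 0 := by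
    apply Polynomial.eq_zero_of_natDegree_lt_card_of_eval_eq_zero (f := fun i : Fin N => ζ ^ (i : ℕ) * S)
    · intro i j hij
      have h4 := mul_right_cancel₀ hS0 hij
      exact Fin.ext (hζ.pow_inj i.2 j.2 h4)
    · exact h1
    · rw [Fintype.card_fin]
      by_cases hp0 : p.map (algebraMap B L) = 0
      · rw [hp0, natDegree_zero]
        exact hN
      · rw [Polynomial.natDegree_lt_iff_degree_lt hp0]
        exact (Polynomial.degree_map_le).trans_lt hp
  have h5 : p = 0 := (Polynomial.map_eq_zero_iff hBL).mp h3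
  rw [h5, map_zero] at hq
  exact h.tors b c hb hq

end K27.CovLift
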