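import Groth.Agent.CycCov.K27.KumRing
import Groth.Agent.CycCov.K926.LocW
import Groth.Agent.Etcore.RootCover
import Groth.Agent.FinCov.K993.LocFree

/-!
# The normalization of a smooth scheme in a Kummer extension of its function field
-/

set_option autoImplicit false
universe u

open CategoryTheory CategoryTheory.Limits AlgebraicGeometry Opposite TopologicalSpace
open Groth.Agent.Fdesc.LocGen Groth.Agent.Etcore.RootCover Groth.Agent.Ega2.NormChart
open Groth.Agent.CurvesC.NodeEt K926.Str K926.Loc

namespace K27.KumCover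

/-- The rank of a finite flat integral closure in a finite extension of the fraction field. -/
theorem rankAtStalk_eq {B K L C : Type u} [CommRing B] [IsDomain B] [Field K] [Algebra B K] [IsFractionRing B K]
    [Field L] [Algebra K L] [Algebra B L] [IsScalarTower B K L] [FiniteDimensional K L] [CommRing C] [Algebra B C]
    [Algebra C L] [IsScalarTower B C L] [IsIntegralClosure C B L] [Module.Finite B C] [Module.Flat B C]
    (p : PrimeSpectrum B) : Module.rankAtStalk (R := B) C p = Module.finrank K L := by
  have hloc : IsLocalization (Algebra.algebraMapSubmonoid C (nonZeroDivisors B)) L :=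
    IsIntegralClosure.isLocalization B K L C
  have h1 : IsLocalizedModule (nonZeroDivisors B) (IsScalarTower.toAlgHom B C L).toLinearMap :=
    isLocalizedModule_iff_isLocalization.mpr hloc
  have h2 : IsBaseChange K (IsScalarTower.toAlgHom B C L).toLinearMap :=
    (isLocalizedModule_iff_isBaseChange (nonZeroDivisors B) K _).mp h1
  have h3 := Module.rankAtStalk_isBaseChange h2 ⊥
  rw [Module.rankAtStalk_eq_finrank_of_free] at h3
  have h4 : (PrimeSpectrum.comap (algebraMap B K) ⊥) ≤ p := by
    intro b hb
    have h5 : algebraMap B K b = 0 := hb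
    rw [(map_eq_zero_iff _ (IsFractionRing.injective B K)).mp h5]
    exact p.asIdeal.zero_mem
  rw [← Module.rankAtStalk_eq_of_le_of_finite_of_flat C h4, ← h3]
  rfl

variable {k : Type u} [Field k] {X : Scheme.{u}} [IsIntegral X] (f : X ⟶ Spec (CommRingCat.of k))
  (L : Type u) [Field L] [Algebra X.functionField L]

/-- A Kummer chart at `x`: étale coordinates such that `L` is generated by roots of units and of different
coordinates, and each member of the family `D` is the divisor of such a unit or coordinate. -/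
def HasChart {r : ℕ} (D : Fin r → X.IdealSheafData) (Nj : Fin r → ℕ) (x : X) : Prop :=
  ∃ (U : X.affineOpens) (_ : Nonempty U.1) (n m : ℕ) (v : Fin n → Γ(X, U.1)) (N : Fin m → ℕ)
    (c : Fin m → Γ(X, U.1)) (ε : Fin m → Option (Fin n)) (ρ : Fin m → L) (p : Fin r → Fin m),
    x ∈ U.1 ∧ IsCoord f U.1 v ∧ (∀ i, (N i : k) ≠ 0) ∧ (∀ i i' j, ε i = some j → ε i' = some j → i = i') ∧
    (∀ i, ε i = none → IsUnit (c i)) ∧ (∀ i j, ε i = some j → c i = v j) ∧
    (∀ i, ρ i ^ N i = algebraMap X.functionField L (algebraMap Γ(X, U.1) X.functionField (c i))) ∧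
    Algebra.adjoin X.functionField (Set.range ρ) = ⊤ ∧ Function.Injective p ∧
    (∀ j, (D j).ideal U = Ideal.span {c (p j)}) ∧ ∀ j, N (p j) = Nj j

/-- The local structure of the normalization in a Kummer chart. -/
theorem local_structure {f : X ⟶ Spec (CommRingCat.of k)} [FiniteDimensional X.functionField L] {r : ℕ}
    {D : Fin r → X.IdealSheafData} {Nj : Fin r → ℕ} {x : X} (h : HasChart f L D Nj x) :
    ∃ (U : X.affineOpens) (V : (gen (X := X) L).normalization.affineOpens) (n : ℕ)
      (c : K922.Chart.Chart ((gen (X := X) L).fromNormalization ≫ f)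
        (fun j => ((D j).comap (gen (X := X) L).fromNormalization).radical) V.1 n),
      x ∈ U.1 ∧ V.1 = (gen (X := X) L).fromNormalization ⁻¹ᵁ U.1 ∧
      IsCoord ((gen (X := X) L).fromNormalization ≫ f) V.1 c.v ∧
      (∀ j, ((D j).comap (gen (X := X) L).fromNormalization).ideal V = Ideal.span {c.g j ^ Nj j}) ∧
      ((gen (X := X) L).fromNormalization.app U.1).hom.Finite ∧
      ((gen (X := X) L).fromNormalization.app U.1).hom.Flat ∧
      letI := ((gen (X := X) L).fromNormalization.app U.1).hom.toAlgebra
      ∀ p : PrimeSpectrum Γ(X, U.1), Module.rankAtStalk (R := Γ(X, U.1))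
        Γ((gen (X := X) L).normalization, (gen (X := X) L).fromNormalization ⁻¹ᵁ U.1) p =
          Module.finrank X.functionField L := by
  obtain ⟨U, hne, n, m, v, N, c, ε, ρ, p, hxU, hv, hN, hinj, hunit, hcoord, hρ, hgen, hp, hD, hNj⟩ := h
  set w := gen (X := X) L
  let τ := w.fromNormalization
  have : IsFractionRing Γ(X, U.1) X.functionField := functionField_isFractionRing_of_isAffineOpen X U.1 U.2
  let _ : Algebra Γ(X, U.1) L := (toK w U.1 (gen_preimage L U.1)).toAlgebra
  have htow : IsScalarTower Γ(X, U.1) X.functionField L := IsScalarTower.of_algebraMap_eq (toK_gen L U.1)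
  let _ : Algebra Γ(X, U.1) Γ(w.normalization, τ ⁻¹ᵁ U.1) := (τ.app U.1).hom.toAlgebra
  let _ : Algebra Γ(w.normalization, τ ⁻¹ᵁ U.1) L := (normToK w U.1 (gen_preimage L U.1)).toAlgebra
  have hcomp := normToK_comp w U.1 (gen_preimage L U.1)
  have htow2 : IsScalarTower Γ(X, U.1) Γ(w.normalization, τ ⁻¹ᵁ U.1) L :=
    IsScalarTower.of_algebraMap_eq fun a => (congrArg (fun z : Γ(X, U.1) →+* L => z a) hcomp).symm
  have hic : IsIntegralClosure Γ(w.normalization, τ ⁻¹ᵁ U.1) Γ(X, U.1) L :=
    { algebraMap_injective := normToK_injective w U.1 (gen_preimage L U.1) U.2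
      isIntegral_iff := fun {y} => (mem_range_normToK w U.1 (gen_preimage L U.1) U.2 y).symm }
  let _ : Algebra k Γ(X, U.1) := algk f U.1
  let _ : Algebra k Γ(w.normalization, τ ⁻¹ᵁ U.1) := algk (τ ≫ f) (τ ⁻¹ᵁ U.1)
  have htow3 : IsScalarTower k Γ(X, U.1) Γ(w.normalization, τ ⁻¹ᵁ U.1) := IsScalarTower.of_algebraMap_eq fun a => by
    have h2 := str_comp τ f U.1 (τ ⁻¹ᵁ U.1) le_rfl
    rw [← Scheme.Hom.app_eq_appLE] at h2
    exact (congr($h2 a)).symm
  obtain ⟨x', hx', h1, h2, hf, hfl⟩ := K27.KumRing.exists_coord_roots (K := X.functionField) (L := L)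
    (C := Γ(w.normalization, τ ⁻¹ᵁ U.1)) m v hv N hN c ε hinj hunit hcoord ρ
    (fun i => (hρ i).trans (IsScalarTower.algebraMap_apply _ _ _ _).symm) hgen
  have hNk : ∀ j, 0 < Nj j := fun j => by
    rw [← hNj j]
    refine Nat.pos_of_ne_zero fun h => hN (p j) ?_
    rw [h, Nat.cast_zero]
  let V : w.normalization.affineOpens := ⟨τ ⁻¹ᵁ U.1, U.2.preimage τ⟩
  let g : Fin r → Γ(w.normalization, V.1) := fun j => (ε (p j)).elim 1 x'
  have hIc : ∀ j, ((D j).comap τ).ideal V = Ideal.span {(τ.app U.1).hom (c (p j))} := by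
    intro j
    rw [Groth.Agent.Divis.IdealComap.ideal_comap (D j) τ U V le_rfl, hD j, Ideal.map_span, Set.image_singleton,
      ← Scheme.Hom.app_eq_appLE]
  have hI : ∀ j, ((D j).comap τ).ideal V = Ideal.span {g j ^ Nj j} := by
    intro j
    rw [hIc j]
    rcases hj : ε (p j) with _ | l
    · have h3 : g j = 1 := by simp only [g, hj, Option.elim]
      rw [h3, one_pow, Ideal.span_singleton_one, Ideal.span_singleton_eq_top]
      exact (hunit _ hj).map _
    · have h3 : g j = x' l := by simp only [g, hj, Option.elim]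
      rw [h3]
      congr 2
      apply IsIntegralClosure.algebraMap_injective Γ(w.normalization, τ ⁻¹ᵁ U.1) Γ(X, U.1) L
      have h4 := h2 (p j) l hj
      rw [map_pow, h4, ← hNj j, hρ, ← IsScalarTower.algebraMap_apply Γ(X, U.1) X.functionField L,
        IsScalarTower.algebraMap_apply Γ(X, U.1) Γ(w.normalization, τ ⁻¹ᵁ U.1) L]
      rfl
  have hx'' : IsCoord (τ ≫ f) V.1 x' := hx'
  refine ⟨U, V, n, mkChart (fun j => (D j).comap τ) (V := V) x' hx'' (fun j => ε (p j)) g
    (fun i i' l hi hi' => hp (hinj _ _ _ hi hi')) (fun j hj => by simp only [g, hj, Option.elim])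
    (fun j l hj => by simp only [g, hj, Option.elim]) Nj hNk hI, hxU, rfl, hx'', hI, ?_, ?_, ?_⟩
  · exact RingHom.finite_algebraMap.mpr hf
  · exact RingHom.flat_algebraMap_iff.mpr hfl
  · exact fun p => rankAtStalk_eq (K := X.functionField) (L := L) p

/-- The normalization of a smooth scheme in a Kummer extension of its function field with charts everywhere. -/
theorem global_structure {f : X ⟶ Spec (CommRingCat.of k)} [LocallyOfFiniteType f]
    [FiniteDimensional X.functionField L] {r : ℕ} {D : Fin r → X.IdealSheafData} {Nj : Fin r → ℕ}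
    (h : ∀ x, HasChart f L D Nj x) :
    Smooth ((gen (X := X) L).fromNormalization ≫ f) ∧ IsFinite (gen (X := X) L).fromNormalization ∧
    Surjective (gen (X := X) L).fromNormalization ∧
    (∀ j, (D j).comap (gen (X := X) L).fromNormalization =
      ((D j).comap (gen (X := X) L).fromNormalization).radical ^ Nj j) ∧
    LogNCD.IsNCD (fun j => ((D j).comap (gen (X := X) L).fromNormalization).radical)
      ((gen (X := X) L).fromNormalization ≫ f) ∧
    FinCov.IsCover (gen (X := X) L).fromNormalization (Module.finrank X.functionField L) := by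
  set w := gen (X := X) L
  let τ := w.fromNormalization
  have hloc := fun x => local_structure L (h x)
  choose U V n c hxU hV hcoord hI hfin hflat hrank using hloc
  have hmem : ∀ z : w.normalization, z ∈ (V (τ z)).1 := fun z => by
    rw [hV]
    exact hxU (τ z)
  have hN : IsLocallyNoetherian X := LocallyOfFiniteType.isLocallyNoetherian f
  have hf : IsFinite τ := Groth.Agent.Ega2.NormCurve.isFinite_of_cover _ (fun x => (U x).1) (fun x => (U x).2)
      (by rw [eq_top_iff]; intro x _; exact TopologicalSpace.Opens.mem_iSup.mpr ⟨x, hxU x⟩) hfin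
  have hfl : Flat τ := by
    rw [HasRingHomProperty.iff_exists_appLE (P := @Flat)
      (RingHom.Flat.stableUnderComposition.stableUnderCompositionWithLocalizationAway
        RingHom.Flat.holdsForLocalizationAway).1]
    intro z
    refine ⟨U (τ z), ⟨τ ⁻¹ᵁ (U (τ z)).1, (U (τ z)).2.preimage τ⟩, hxU (τ z), le_rfl, ?_⟩
    rw [← Scheme.Hom.app_eq_appLE]
    exact hflat (τ z)
  have hdom : IsDominant w := by
    constructor
    rw [DenseRange, dense_iff_closure_eq]
    refine Set.eq_univ_of_univ_subset ?_
    have h1 : closure {genericPoint X} = Set.univ := genericPoint_closure X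
    rw [← h1]
    apply closure_mono
    rintro _ rfl
    exact ⟨IsLocalRing.closedPoint L, gen_apply L _⟩
  have hdom' : IsDominant τ := by
    have : IsDominant (w.toNormalization ≫ τ) := by
      rw [w.toNormalization_fromNormalization]; infer_instance
    exact IsDominant.of_comp w.toNormalization _
  refine ⟨?_, hf, ?_, ?_, ?_, ?_⟩
  · have h1 : Smooth ((⊤ : w.normalization.Opens).ι ≫ τ ≫ f) := smooth_ι_of_nhds _ _ fun z _ =>
      ⟨(V (τ z)).1, hmem z, le_top, IsCoord.smooth (V (τ z)).2 (hcoord (τ z))⟩
    have h2 : Smooth (w.normalization.topIso.inv ≫ (⊤ : w.normalization.Opens).ι ≫ τ ≫ f) := inferInstance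
    rwa [← Category.assoc, Scheme.toIso_inv_ι, Category.id_comp] at h2
  · exact surjective_of_isDominant_of_isClosed_range _ τ.isClosedMap.isClosed_range
  · intro j
    ext V₀ : 2
    apply ideal_eq_of_nhds
    intro z _
    refine ⟨V (τ z), hmem z, ?_⟩
    have h1 := (c (τ z)).ideal j (V (τ z)) le_rfl
    rw [hI, Scheme.IdealSheafData.ideal_pow, Pi.pow_apply, h1, Ideal.span_singleton_pow,
      Groth.Agent.Sga67.Sec.resO_self]
  · exact isNCD_of_charts fun z => ⟨V (τ z), n (τ z), c (τ z), hmem z⟩
  · refine ⟨⟨hf, hfl, ?_⟩, fun x => ?_⟩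
    · infer_instance
    · obtain ⟨p, hp⟩ : x ∈ Set.range (U x).2.fromSpec := by
        rw [(U x).2.range_fromSpec]
        exact hxU x
      have h1 := K993.Cover.finrank_fromSpec (K993.Cover.chart τ (U x).1 (U x).2) p
      rw [hp] at h1
      exact h1.trans (hrank x p)

end K27.KumCover
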