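import Groth.Agent.CycCov.K27.CovLift
import Groth.Agent.CycCov.K27.KumCover
import Groth.Agent.CycCov.K926.CovSch
import Groth.Agent.Pi1C.ZeroScheme

/-!
# Points of a normalised cyclic cover over the generic point
-/

set_option autoImplicit false
universe u

open CategoryTheory CategoryTheory.Limits AlgebraicGeometry Opposite TopologicalSpace
open Groth.Agent.Fdesc.LocGen Groth.Agent.Etcore.RootCover K926.Frame K926.CovSch

namespace K27.CovMap

variable {X Y : Scheme.{u}} {π : Y ⟶ X} [IsAffineHom π] {L : Type u} [Field L]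

/-- `Spec L → Y` from a map on the functions over the preimage of an affine open. -/
noncomputable def jmap {U₀ : X.Opens} (hU₀ : IsAffineOpen U₀) (ψ : Γ(Y, π ⁻¹ᵁ U₀) →+* L) :
    Spec (CommRingCat.of L) ⟶ Y :=
  Spec.map (CommRingCat.ofHom ψ) ≫ (hU₀.preimage π).fromSpec

theorem jmap_comp [IsIntegral X] [Algebra X.functionField L] {U₀ : X.Opens} [hne : Nonempty U₀] (hU₀ : IsAffineOpen U₀)
    (ψ : Γ(Y, π ⁻¹ᵁ U₀) →+* L)
    (hψ : ∀ a, ψ ((π.app U₀).hom a) = algebraMap X.functionField L (algebraMap Γ(X, U₀) X.functionField a)) :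
    jmap hU₀ ψ ≫ π = gen (X := X) L := by
  have hη : genericPoint X ∈ U₀ := by
    obtain ⟨⟨z, hz⟩⟩ := hne
    exact ((genericPoint_spec X).mem_open_set_iff U₀.isOpen).mpr ⟨z, trivial, hz⟩
  rw [jmap, Category.assoc, (K993.Cover.isPullback_fromSpec π hU₀).w, ← Category.assoc, ← Spec.map_comp, gen,
    ← hU₀.fromSpecStalk_eq_fromSpecStalk hη, IsAffineOpen.fromSpecStalk, ← Category.assoc, ← Spec.map_comp]
  congr 2
  ext a
  exact hψ a

theorem jmap_mem {U₀ : X.Opens} (hU₀ : IsAffineOpen U₀) (ψ : Γ(Y, π ⁻¹ᵁ U₀) →+* L) (c : Γ(Y, π ⁻¹ᵁ U₀)) (hc : ψ c ≠ 0)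
    (z : Spec (CommRingCat.of L)) : jmap hU₀ ψ z ∈ Y.basicOpen c := by
  have h1 : (hU₀.preimage π).fromSpec ⁻¹ᵁ Y.basicOpen c = PrimeSpectrum.basicOpen c :=
    (hU₀.preimage π).fromSpec_preimage_basicOpen c
  change (hU₀.preimage π).fromSpec (Spec.map (CommRingCat.ofHom ψ) z) ∈ Y.basicOpen c
  have h2 : Spec.map (CommRingCat.ofHom ψ) z ∈ (hU₀.preimage π).fromSpec ⁻¹ᵁ Y.basicOpen c := by
    rw [h1]
    change ψ c ∉ (show PrimeSpectrum L from z).asIdeal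
    intro h3
    exact (show PrimeSpectrum L from z).2.ne_top (Ideal.eq_top_of_isUnit_mem _ h3 (IsUnit.mk0 _ hc))
  exact h2

/-- Every nonempty open subset of the cover contains one of the points given by a jointly injective family. -/
theorem exists_jmap_mem [IsIntegral X] {B : X.Modules} (hB : PicF.IsInvertible B) {N : ℕ} (hN : 0 < N)
    {s : Coh.structureModule X ⟶ CohB1.tensorPow B N} (R : CycCov.Root B N s π) (hR : CycCov.IsCover R) {U₀ : X.Opens}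
    (hU₀ : IsAffineOpen U₀) [hne : Nonempty U₀] (ψ : Fin N → (Γ(Y, π ⁻¹ᵁ U₀) →+* L))
    (hψ : ∀ c, (∀ i, ψ i c = 0) → c = 0) (V : Y.Opens) {y : Y} (hy : y ∈ V) (z : Spec (CommRingCat.of L)) :
    ∃ i, jmap hU₀ (ψ i) z ∈ V := by
  have hred : AlgebraicGeometry.IsReduced Y := isReduced_of_normal hR.2.1
  obtain ⟨U, hU, hyU, -, e, he⟩ := Groth.Agent.Pi1C.ZeroScheme.exists_affine_isGen hB ⊤ (π y) trivial
  obtain ⟨f, hf⟩ := exists_coord he s
  have hUne : Nonempty U := ⟨⟨_, hyU⟩⟩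
  let _ : Algebra Γ(X, U) Γ(Y, π ⁻¹ᵁ U) := alg π U
  have hcov := isCov R hR hN hU ⟨_, hyU⟩ he hf
  obtain ⟨c, hcV, hyc⟩ := (hU.preimage π).exists_basicOpen_le (V := V) ⟨y, hy⟩ hyU
  have hη : genericPoint X ∈ U := ((genericPoint_spec X).mem_open_set_iff U.2).mpr ⟨_, trivial, hyU⟩
  have hη₀ : genericPoint X ∈ U₀ := by
    obtain ⟨⟨z, hz⟩⟩ := hne
    exact ((genericPoint_spec X).mem_open_set_iff U₀.2).mpr ⟨z, trivial, hz⟩
  obtain ⟨b, hbU₀, hbη⟩ := hU.exists_basicOpen_le (V := U₀) ⟨genericPoint X, hη₀⟩ hη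
  have hb0 : b ≠ 0 := by
    rintro rfl
    simp at hbη
  have hc0 : c ≠ 0 := by
    rintro rfl
    simp at hyc
  have hd : (π.app U).hom b * c ≠ 0 := fun h => hc0 (hcov.tors b c hb0 h)
  have h1 : ((Y.basicOpen ((π.app U).hom b * c) : Y.Opens) : Set Y).Nonempty := by
    rw [Set.nonempty_iff_ne_empty]
    intro h0
    exact hd ((basicOpen_eq_bot_iff _).mp (Opens.ext h0))
  obtain ⟨y', hy'⟩ := h1
  rw [SetLike.mem_coe, Scheme.basicOpen_mul] at hy'
  have hy'V : y' ∈ V := hcV hy'.2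
  have hy'U : y' ∈ π ⁻¹ᵁ U₀ := by
    have h2 : y' ∈ π ⁻¹ᵁ X.basicOpen b := by
      rw [Scheme.preimage_basicOpen]
      exact hy'.1
    exact hbU₀ h2
  obtain ⟨c₀, hc₀V, hy'c⟩ := (hU₀.preimage π).exists_basicOpen_le (V := V) ⟨y', hy'V⟩ hy'U
  have hc₀ : c₀ ≠ 0 := by
    rintro rfl
    simp at hy'c
  obtain ⟨i, hi⟩ : ∃ i, ψ i c₀ ≠ 0 := by
    by_contra hcon
    push Not at hcon
    exact hc₀ (hψ c₀ hcon)
  exact ⟨i, hc₀V (jmap_mem hU₀ (ψ i) c₀ hi z)⟩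

end K27.CovMap
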