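import Groth.Agent.CycCov.K27.KumCover
import Groth.Agent.Vanish.K660.NcdEt
import Groth.Agent.Sga4B.ClopenRank
import Groth.Agent.Sga1.SigmaFinite

/-!
# Disjoint unions of copies of a cover
-/

set_option autoImplicit false
universe u

open CategoryTheory CategoryTheory.Limits AlgebraicGeometry Opposite TopologicalSpace
open Groth.Agent.Fdesc.LocGen K926.Str K926.Loc

namespace K27.Split

variable {k : Type u} [Field k]

/-- The components of a normal crossing divisor are radical. -/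
theorem radical_eq {Y : Scheme.{u}} {p : Y ⟶ Spec (CommRingCat.of k)} [Smooth p] {r : ℕ} {D : Fin r → Y.IdealSheafData}
    (hD : LogNCD.IsNCD D p) (j : Fin r) : (D j).radical = D j := by
  ext U : 2
  apply ideal_eq_of_nhds
  intro y _
  obtain ⟨V, n, c, hyV, -⟩ := K922.Chart.exists_chart hD (x := y) (O := ⊤) trivial
  obtain ⟨W, hWV, -, hyW, hcoord⟩ := exists_isCoord_res c.coord (le_refl _) hyV
  refine ⟨W, hyW, ?_⟩
  have h1 := c.ideal j W hWV
  rw [Scheme.IdealSheafData.radical_ideal, h1]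
  rcases hj : c.e j with _ | l
  · rw [c.g_none j hj]
    have h2 : Groth.Agent.Sga67.Sec.resO Y hWV (1 : Γ(Y, V.1)) = 1 := map_one _
    rw [h2, Ideal.span_singleton_one]
    exact Ideal.radical_top _
  · rw [c.g_some j l hj]
    exact (isRadical_coord_one hcoord l).radical

/-- The disjoint union of copies of a cover. -/
theorem split_structure {Z X : Scheme.{u}} (τ : Z ⟶ X) (f : X ⟶ Spec (CommRingCat.of k)) {r : ℕ}
    {D : Fin r → X.IdealSheafData} {Nj : Fin r → ℕ} (hN : ∀ j, Nj j ≠ 0) [hsm : Smooth (τ ≫ f)] [hfin : IsFinite τ]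
    (hc : ∀ j, (D j).comap τ = ((D j).comap τ).radical ^ Nj j)
    (hNCD : LogNCD.IsNCD (fun j => ((D j).comap τ).radical) (τ ≫ f)) {d : ℕ} (hcov : FinCov.IsCover τ d) (ι : Type u)
    [Fintype ι] :
    Smooth (Sigma.desc (fun _ : ι => τ) ≫ f) ∧ IsFinite (Sigma.desc (fun _ : ι => τ)) ∧
    LogNCD.IsNCD (fun j => ((D j).comap (Sigma.desc (fun _ : ι => τ))).radical) (Sigma.desc (fun _ : ι => τ) ≫ f) ∧
    (∀ j, (D j).comap (Sigma.desc (fun _ : ι => τ)) =
      ((D j).comap (Sigma.desc (fun _ : ι => τ))).radical ^ Nj j) ∧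
    FinCov.IsCover (Sigma.desc (fun _ : ι => τ)) (Fintype.card ι * d) := by
  classical
  let nab : (∐ fun _ : ι => Z) ⟶ Z := Sigma.desc (fun _ : ι => 𝟙 Z)
  have hnab : nab ≫ τ = Sigma.desc (fun _ : ι => τ) := by
    apply Sigma.hom_ext
    intro i
    rw [← Category.assoc, Sigma.ι_desc, Sigma.ι_desc, Category.id_comp]
  have het : Etale nab := IsZariskiLocalAtSource.sigmaDesc (P := @Etale) fun _ => inferInstance
  have hfin' : IsFinite (Sigma.desc (fun _ : ι => τ)) := Groth.Agent.Sga1.SigmaFinite.isFinite_sigmaDesc _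
  obtain ⟨⟨h1, h2, h3⟩, h4⟩ := hcov
  have hfl : Flat (Sigma.desc (fun _ : ι => τ)) := IsZariskiLocalAtSource.sigmaDesc (P := @Flat) fun _ => h2
  have hlfp : LocallyOfFinitePresentation (Sigma.desc (fun _ : ι => τ)) :=
    IsZariskiLocalAtSource.sigmaDesc (P := @LocallyOfFinitePresentation) fun _ => h3
  have hnabf : nab ≫ τ ≫ f = Sigma.desc (fun _ : ι => τ) ≫ f := by rw [← Category.assoc, hnab]
  have hsm' : Smooth (Sigma.desc (fun _ : ι => τ) ≫ f) := by
    rw [← hnabf]
    infer_instance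
  have hrad := K660.NcdEt.isNCD_comap_of_etale nab hNCD
  rw [hnabf] at hrad
  have hcom : ∀ j, (D j).comap (Sigma.desc (fun _ : ι => τ)) = (((D j).comap τ).radical.comap nab) ^ Nj j := by
    intro j
    rw [← hnab, Scheme.IdealSheafData.comap_comp]
    conv_lhs => rw [hc j]
    exact Groth.Agent.Divis.IdealComap.comap_pow _ _ _
  have hr : ∀ j, ((D j).comap (Sigma.desc (fun _ : ι => τ))).radical = ((D j).comap τ).radical.comap nab := by
    intro j
    have h5 := radical_eq hrad j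
    rw [hcom j]
    ext U : 2
    rw [Scheme.IdealSheafData.radical_ideal, Scheme.IdealSheafData.ideal_pow, Pi.pow_apply,
      Ideal.radical_pow _ (hN j), ← Scheme.IdealSheafData.radical_ideal, h5]
  refine ⟨hsm', hfin', ?_, fun j => ?_, ⟨hfin', hfl, hlfp⟩, fun x => ?_⟩
  · simp only [hr]
    exact hrad
  · rw [hr, hcom]
  · have hco : ∀ i : ι, Sigma.ι (fun _ : ι => Z) i ≫ Sigma.desc (fun _ : ι => τ) = τ := fun i => Sigma.ι_desc _ _
    have hfi : ∀ i : ι, IsFinite (Sigma.ι (fun _ : ι => Z) i ≫ Sigma.desc (fun _ : ι => τ)) := fun i => by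
      rw [hco]; exact hfin
    rw [Groth.Agent.Sga4B.ClopenRank.finrank_eq_sum (fun i => Sigma.ι (fun _ : ι => Z) i)
      ?_ ?_ (Sigma.desc (fun _ : ι => τ)) x]
    · simp only [hco, h4]
      rw [Finset.sum_const, Finset.card_univ, smul_eq_mul]
    · rw [eq_top_iff]
      intro y _
      obtain ⟨i, z, hz⟩ := (sigmaOpenCover (fun _ : ι => Z)).exists_eq y
      exact Opens.mem_iSup.mpr ⟨i, z, hz⟩
    · intro i j hij
      exact disjoint_opensRange_sigmaι _ i j hij

end K27.Split
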