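import Groth.Agent.CycCov.K27.Kaw
import Groth.Agent.CycCov.K27.Split
import Groth.Agent.CycCov.K27.CovMap

/-!
# Smooth covers of a normalised cyclic cover
-/

set_option autoImplicit false
universe u

open CategoryTheory CategoryTheory.Limits AlgebraicGeometry Opposite TopologicalSpace
open Groth.Agent.Fdesc.LocGen Groth.Agent.Etcore.RootCover K926.Frame K926.CovSch K926.Str

namespace K27.CycMain

/-- The family of maps `Spec E → Y` for a cyclic cover `Y` and a field `E` containing a root of the section. -/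
theorem exists_maps {k : Type u} [Field k] [IsAlgClosed k] {X Y : Scheme.{u}} [IsIntegral X]
    (f : X ⟶ Spec (CommRingCat.of k)) {B : X.Modules} (hB : PicF.IsInvertible B) {N : ℕ} (hN : 0 < N)
    (hNk : (N : k) ≠ 0) {s : Coh.structureModule X ⟶ CohB1.tensorPow B N} {π : Y ⟶ X} [hπ : IsFinite π]
    (R : CycCov.Root B N s π) (hR : CycCov.IsCover R) {U₀ : X.Opens} (hU₀ : IsAffineOpen U₀) [hne : Nonempty U₀]
    {b₀ : Γ(B, U₀)} (hb₀ : IsGen b₀) {γt : Γ(X, U₀)} (hγt : sec s U₀ = γt • lp b₀ N) (hγ0 : γt ≠ 0)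
    {E : Type u} [Field E] [Algebra X.functionField E] (S : E)
    (hS : S ^ N = algebraMap X.functionField E (algebraMap Γ(X, U₀) X.functionField γt)) :
    ∃ j : Fin N → (Spec (CommRingCat.of E) ⟶ Y), (∀ i, gen (X := X) E = j i ≫ π) ∧
      ∀ (V : Y.Opens) (y : Y) (_ : y ∈ V) (z : Spec (CommRingCat.of E)), ∃ i, j i z ∈ V := by
  let _ : Algebra Γ(X, U₀) Γ(Y, π ⁻¹ᵁ U₀) := alg π U₀
  let _ : Algebra Γ(X, U₀) E :=
    ((algebraMap X.functionField E).comp (algebraMap Γ(X, U₀) X.functionField)).toAlgebra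
  have hBL : Function.Injective (algebraMap Γ(X, U₀) E) :=
    (algebraMap X.functionField E).injective.comp (X.germToFunctionField_injective U₀)
  have hU₀ne : (U₀ : Set X).Nonempty := Set.nonempty_coe_sort.mp hne
  have hcov := isCov R hR hN hU₀ hU₀ne hb₀ hγt
  obtain ⟨ζ, hζ, -, -⟩ := K926.Loc.exists_zeta hN hNk
  let φ : k →+* E := (algebraMap Γ(X, U₀) E).comp (K926.Str.str f U₀)
  have hζE : IsPrimitiveRoot (φ ζ) N := hζ.map_of_injective φ.injective
  have hS' : ∀ i : Fin N, (φ ζ ^ (i : ℕ) * S) ^ N = algebraMap Γ(X, U₀) E γt := fun i => by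
    rw [mul_pow, ← pow_mul, mul_comm (i : ℕ) N, pow_mul, hζE.pow_eq_one, one_pow, one_mul]
    exact hS
  choose ψ hψ using fun i => K27.CovLift.exists_lift hBL hcov hN _ (hS' i)
  have hS0 : S ≠ 0 := by
    rintro rfl
    rw [zero_pow hN.ne'] at hS
    exact hγ0 ((map_eq_zero_iff _ hBL).mp hS.symm)
  refine ⟨fun i => K27.CovMap.jmap hU₀ (ψ i).toRingHom, fun i => ?_, fun V y hy z => ?_⟩
  · exact (K27.CovMap.jmap_comp hU₀ _ fun a => (ψ i).commutes a).symm
  · exact K27.CovMap.exists_jmap_mem hB hN R hR hU₀ (fun i => (ψ i).toRingHom)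
      (fun c hc => K27.CovLift.eq_zero_of_forall hBL hcov hN S hS0 hζE ψ hψ c hc) V hy z

/-- **Smooth finite covers of normalised cyclic covers.** -/
theorem main {k : Type u} [Field k] [IsAlgClosed k] {X Y : Scheme.{u}}
    (f : X ⟶ Spec (CommRingCat.of k)) [Smooth f] [IsIntegral X] [IsSeparated f] [CompactSpace X]
    (A : X.Modules) (hA : PicF.IsInvertible A) (hAmp : CohB1.IsAmple A)
    (L : X.Modules) (hL : PicF.IsInvertible L) (N : ℕ) (hN : 0 < N) (hNk : (N : k) ≠ 0)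
    {r : ℕ} (D : Fin r → X.IdealSheafData) (α : Fin r → ℕ) (hD : LogNCD.IsNCD D f)
    (s : Coh.structureModule X ⟶ CohB1.tensorPow L N) (hs : CycCov.IsZeroDiv (CohB1.tensorPow L N) s (CycCov.divIdeal D α))
    (π : Y ⟶ X) (R : CycCov.Root L N s π) (hR : CycCov.IsCover R) :
    ∃ (T : Scheme.{u}) (δ : T ⟶ Y), Smooth (δ ≫ π ≫ f) ∧ IsFinite δ ∧ Surjective δ ∧
      (∃ e m : ℕ, FlatMod.IsFinLocFreeOfRank e ((Scheme.Modules.pushforward (δ ≫ π)).obj (Coh.structureModule T)) ∧ e ∣ N ^ m) ∧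
      LogNCD.IsNCD (fun j : Fin r => ((D j).comap (δ ≫ π)).radical) (δ ≫ π ≫ f) ∧
      ∀ j : Fin r, α j = 0 → (D j).comap (δ ≫ π) = ((D j).comap (δ ≫ π)).radical := by
  have hsep : QuasiSeparatedSpace X := quasiSeparatedSpace_of_quasiSeparated f
  have hπ : IsFinite π := hR.1
  let Nj : Fin r → ℕ := fun j => if α j = 0 then 1 else N
  have hNj0 : ∀ j, Nj j ≠ 0 := fun j => by
    by_cases h : α j = 0
    · simp only [Nj, if_pos h]; exact one_ne_zero
    · simp only [Nj, if_neg h]; exact hN.ne'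
  have hNjk : ∀ j, (Nj j : k) ≠ 0 := fun j => by
    by_cases h : α j = 0
    · simp only [Nj, if_pos h, Nat.cast_one]; exact one_ne_zero
    · simp only [Nj, if_neg h]; exact hNk
  -- generic frames
  obtain ⟨U₁, -, hηU₁, -, e₁, he₁⟩ := Groth.Agent.Pi1C.ZeroScheme.exists_affine_isGen hA ⊤ (genericPoint X) trivial
  obtain ⟨U₂, -, hηU₂, hU₂₁, b₂, hb₂⟩ := Groth.Agent.Pi1C.ZeroScheme.exists_affine_isGen hL U₁ (genericPoint X) hηU₁
  obtain ⟨U₀, g, hηU₀, hU₀₂, hg, hgn⟩ := K911.Ncd.exists_equations hD (genericPoint X) U₂ hηU₂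
  have hne : Nonempty U₀.1 := ⟨⟨_, hηU₀⟩⟩
  have he₀ := he₁.res (hU₀₂.trans hU₂₁)
  have hb₀ := hb₂.res hU₀₂
  obtain ⟨γt, hγt⟩ := exists_coord hb₀ s
  have hγ0 : γt ≠ 0 := by
    have h1 := span_coord hs U₀ hb₀ hγt
    have h2 : (CycCov.divIdeal D α).ideal U₀ = Ideal.span {∏ j, g j ^ α j} := by
      unfold CycCov.divIdeal
      rw [K926.Loc.ideal_prod]
      rw [← Ideal.prod_span_singleton]
      refine Finset.prod_congr rfl fun j _ => ?_
      rw [Scheme.IdealSheafData.ideal_pow, Pi.pow_apply, hg, Ideal.span_singleton_pow]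
    rw [h2] at h1
    rintro rfl
    rw [Ideal.span_singleton_eq_span_singleton] at h1
    have h3 : ∏ j, g j ^ α j = 0 := (associated_zero_iff_eq_zero _).mp h1.symm
    exact (Finset.prod_ne_zero_iff.mpr fun j _ => pow_ne_zero _ (nonZeroDivisors.ne_zero (hgn j))) h3
  obtain ⟨E, _, _, S, hfd, hS, hchart, M, hM⟩ := K27.Kaw.exists_kummer f hAmp hD Nj hNjk hL hNk α s hs
    (fun j h => if_neg h) he₀ hb₀ γt hγt
  obtain ⟨h1, h2, h3, h4, h5, h6⟩ := K27.KumCover.global_structure E hchart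
  obtain ⟨j, hj, hjV⟩ := exists_maps f hL hN hNk R hR U₀.2 hb₀ hγt hγ0 S hS
  obtain ⟨g1, g2, g3, g4, g5⟩ := K27.Split.split_structure (gen (X := X) E).fromNormalization f hNj0 h4 h5 h6
    (ULift.{u} (Fin N))
  let Z := (gen (X := X) E).normalization
  let δ : (∐ fun _ : ULift.{u} (Fin N) => Z) ⟶ Y :=
    Sigma.desc fun i => (gen (X := X) E).normalizationDesc (j i.down) π (hj i.down)
  have hδ : δ ≫ π = Sigma.desc (fun _ : ULift.{u} (Fin N) => (gen (X := X) E).fromNormalization) := by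
    apply Sigma.hom_ext
    intro i
    rw [← Category.assoc, Sigma.ι_desc, Sigma.ι_desc]
    exact Scheme.Hom.normalizationDesc_comp _ _ _ _
  have hδf : δ ≫ π ≫ f = Sigma.desc (fun _ : ULift.{u} (Fin N) => (gen (X := X) E).fromNormalization) ≫ f := by
    rw [← Category.assoc, hδ]
  have hδfin : IsFinite δ := by
    have : IsFinite (δ ≫ π) := by rw [hδ]; exact g2
    exact IsFinite.of_comp δ π
  refine ⟨_, δ, ?_, hδfin, ?_, ?_, ?_, ?_⟩
  · rw [hδf]; exact g1
  · have hdom : IsDominant δ := by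
      constructor
      rw [DenseRange, dense_iff_inter_open]
      rintro V hV ⟨y, hy⟩
      obtain ⟨z⟩ : Nonempty (Spec (CommRingCat.of E)) := inferInstance
      obtain ⟨i, hi⟩ := hjV ⟨V, hV⟩ y hy z
      refine ⟨j i z, hi, Sigma.ι (fun _ : ULift.{u} (Fin N) => Z) ⟨i⟩ ((gen (X := X) E).toNormalization z), ?_⟩
      rw [← Scheme.Hom.comp_apply, ← Scheme.Hom.comp_apply, Sigma.ι_desc]
      rw [Scheme.Hom.toNormalization_normalizationDesc]
    exact surjective_of_isDominant_of_isClosed_range _ δ.isClosedMap.isClosed_range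
  · rw [hδ]
    refine ⟨_, r * M + 2, ((K993.LocFree.isCover_iff _ _).mp g5).2, ?_⟩
    have hprod : (∏ j, Nj j) ∣ N ^ r := by
      have : N ^ r = ∏ _j : Fin r, N := by rw [Finset.prod_const, Finset.card_univ, Fintype.card_fin]
      rw [this]
      apply Finset.prod_dvd_prod_of_dvd
      intro j _
      by_cases h : α j = 0
      · simp only [Nj, if_pos h]; exact one_dvd _
      · simp only [Nj, if_neg h]; exact dvd_rfl
    have h7 : Fintype.card (ULift.{u} (Fin N)) = N := by simp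
    rw [h7]
    calc N * Module.finrank X.functionField E ∣ N * ((∏ j, Nj j) ^ M * N) := mul_dvd_mul_left _ hM
      _ ∣ N * ((N ^ r) ^ M * N) := mul_dvd_mul_left _ (mul_dvd_mul_right (pow_dvd_pow_of_dvd hprod M) _)
      _ = N ^ (r * M + 2) := by rw [← pow_mul]; ring
  · rw [hδf, hδ]; exact g3
  · intro i hi
    have h8 := g4 i
    have h9 : Nj i = 1 := if_pos hi
    rw [h9, pow_one] at h8
    rw [hδ]
    exact h8

end K27.CycMain
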