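import Groth.Agent.CycCov.K926.Frame
import Mathlib.AlgebraicGeometry.FunctionField

/-!
# Coefficients of sections of powers of an invertible module in the function field
-/

set_option autoImplicit false
universe u

open CategoryTheory CategoryTheory.Limits AlgebraicGeometry Opposite TopologicalSpace
open Groth.Agent.Fdesc.LocGen K926.Frame

namespace K27.Generic

variable {X : Scheme.{u}} [IsIntegral X]

theorem germ_ores {U V : X.Opens} [Nonempty U] [Nonempty V] (h : V ≤ U) (a : Γ(X, U)) :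
    algebraMap Γ(X, V) X.functionField (ores h a) = algebraMap Γ(X, U) X.functionField a := by
  exact TopCat.Presheaf.germ_res_apply X.presheaf (homOfLE h) (genericPoint X) _ a

theorem nonempty_inf (U V : X.Opens) [hU : Nonempty U] [hV : Nonempty V] : Nonempty (U ⊓ V : X.Opens) := by
  obtain ⟨⟨x, hx⟩⟩ := hU
  obtain ⟨⟨y, hy⟩⟩ := hV
  exact ⟨⟨genericPoint X, ((genericPoint_spec X).mem_open_set_iff U.2).mpr ⟨x, trivial, hx⟩,
    ((genericPoint_spec X).mem_open_set_iff V.2).mpr ⟨y, trivial, hy⟩⟩⟩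

variable {L : X.Modules}

omit [IsIntegral X] in
theorem lp_smul {U : X.Opens} (w : Γ(X, U)) (e : Γ(L, U)) (n : ℕ) : lp (w • e) n = w ^ n • lp e n := by
  induction n with
  | zero =>
    rw [pow_zero, one_smul]
    rfl
  | succ n ih =>
    have h1 : lp (w • e) (n + 1) = tmul (lp (w • e) n) (w • e) := rfl
    have h2 : lp e (n + 1) = tmul (lp e n) e := rfl
    rw [h1, ih, smul_tmul, tmul_smul, smul_smul, ← pow_succ, h2]
    rfl

/-- Comparison of the coefficients of sections with respect to two frames. -/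
theorem exists_compare {U₀ U : X.Opens} [Nonempty U₀] [Nonempty U] {e₀ : Γ(L, U₀)} (he₀ : IsGen e₀) {e : Γ(L, U)}
    (he : IsGen e) : ∃ w : X.functionField, w ≠ 0 ∧ ∀ (n : ℕ) (s : Coh.structureModule X ⟶ CohB1.tensorPow L n)
      (a : Γ(X, U₀)) (c : Γ(X, U)), sec s U₀ = a • lp e₀ n → sec s U = c • lp e n →
      algebraMap Γ(X, U₀) X.functionField a = algebraMap Γ(X, U) X.functionField c * w ^ n := by
  have hne : Nonempty (U₀ ⊓ U : X.Opens) := nonempty_inf U₀ U
  have h₀ : U₀ ⊓ U ≤ U₀ := inf_le_left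
  have h : U₀ ⊓ U ≤ U := inf_le_right
  obtain ⟨w, hw⟩ := (he₀.res h₀).exists_eq (res L h e)
  obtain ⟨w', hw'⟩ := (he.res h).exists_eq (res L h₀ e₀)
  have hww : w' * w = 1 := by
    apply (he₀.res h₀).ext
    rw [mul_smul, ← hw, ← hw', one_smul]
  refine ⟨algebraMap Γ(X, U₀ ⊓ U) X.functionField w, ?_, fun n s a c ha hc => ?_⟩
  · intro h0
    have h1 := congrArg (algebraMap Γ(X, U₀ ⊓ U) X.functionField) hww
    rw [map_mul, h0, mul_zero, map_one] at h1
    exact zero_ne_one h1
  · have h1 := coord_res h₀ ha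
    have h2 := coord_res h hc
    rw [hw, lp_smul, smul_smul] at h2
    have h3 : ores h₀ a = ores h c * w ^ n := (isGen_lp (he₀.res h₀) n).ext (h1.symm.trans h2)
    rw [← germ_ores h₀ a, ← germ_ores h c, h3, map_mul, map_pow]

end K27.Generic
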