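import Groth.Agent.Desc.NormalSmooth
import Groth.Agent.Ega4B.AnUnram3
import Groth.Agent.CycCov.K926.Coord
import Mathlib.RingTheory.Localization.Finiteness
import Mathlib.RingTheory.IntegralClosure.IntegrallyClosed
import Mathlib.RingTheory.Flat.TorsionFree
import Mathlib.RingTheory.Flat.Localization

/-!
# Root extensions of regular algebras with étale coordinates

* `mem_range_of_isIntegral`: a normal ring is integrally closed in its localizations at nonzerodivisors.
* `exists_factor`: integral closure in a quotient of the generic fibre of a finite flat normal algebra.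
-/

set_option autoImplicit false

universe u

open CategoryTheory CategoryTheory.Limits Polynomial

namespace K27.KumRing

/-- A normal ring is integrally closed in its localizations at nonzerodivisors. -/
theorem mem_range_of_isIntegral {R S : Type u} [CommRing R] [CommRing S] [Algebra R S] (hR : EGA4.IsNormalRing R)
    (M : Submonoid R) (hM : M ≤ nonZeroDivisors R) [IsLocalization M S] (y : S) (hy : IsIntegral R y) :
    y ∈ Set.range (algebraMap R S) := by
  let I : Ideal R :=
    { carrier := {a | algebraMap R S a * y ∈ Set.range (algebraMap R S)}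
      add_mem' := by
        rintro a b ⟨r, hr⟩ ⟨s, hs⟩
        exact ⟨r + s, by rw [map_add, map_add, hr, hs, add_mul]⟩
      zero_mem' := ⟨0, by rw [map_zero, zero_mul]⟩
      smul_mem' := by
        rintro c a ⟨r, hr⟩
        exact ⟨c * r, by rw [map_mul, hr, smul_eq_mul, map_mul, mul_assoc]⟩ }
  suffices h : I = ⊤ by
    have h1 : (1 : R) ∈ I := by rw [h]; trivial
    obtain ⟨r, hr⟩ := h1
    exact ⟨r, by rw [hr, map_one, one_mul]⟩
  by_contra hne
  obtain ⟨m, hm, hIm⟩ := Ideal.exists_le_maximal I hne
  obtain ⟨h1, h2⟩ := hR m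
  let Rm := Localization.AtPrime m
  let F := FractionRing Rm
  have hreg : ∀ s ∈ M, algebraMap R Rm s ≠ 0 := by
    intro s hs h0
    obtain ⟨⟨c, hc⟩, hcs⟩ := (IsLocalization.map_eq_zero_iff m.primeCompl Rm s).mp h0
    have : c = 0 := (mem_nonZeroDivisors_iff_right.mp (hM hs)) c hcs
    exact hc (this ▸ m.zero_mem)
  let g : R →+* F := (algebraMap Rm F).comp (algebraMap R Rm)
  have hg : ∀ s : M, IsUnit (g s) := fun s => by
    apply IsUnit.mk0
    exact (map_ne_zero_iff _ (IsFractionRing.injective Rm F)).mpr (hreg s s.2)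
  let ψ : S →+* F := IsLocalization.lift hg
  have hψ : ∀ r, ψ (algebraMap R S r) = algebraMap Rm F (algebraMap R Rm r) := fun r => IsLocalization.lift_eq hg r
  have hint : IsIntegral Rm (ψ y) := by
    obtain ⟨p, hp, hpy⟩ := hy
    refine ⟨p.map (algebraMap R Rm), hp.map _, ?_⟩
    rw [Polynomial.eval₂_map]
    have h3 : (algebraMap Rm F).comp (algebraMap R Rm) = ψ.comp (algebraMap R S) := by
      refine RingHom.ext fun r => ?_
      exact (hψ r).symm
    rw [h3, ← Polynomial.hom_eval₂, hpy, map_zero]
  obtain ⟨z, hz⟩ := IsIntegrallyClosed.isIntegral_iff.mp hint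
  obtain ⟨⟨r, s⟩, hrs⟩ := IsLocalization.surj M y
  obtain ⟨⟨r', t⟩, hrt⟩ := IsLocalization.surj m.primeCompl z
  have h4 : algebraMap R Rm r = z * algebraMap R Rm s := by
    apply IsFractionRing.injective Rm F
    rw [map_mul, hz, ← hψ, ← hψ, ← map_mul, hrs]
  have h5 : algebraMap R Rm (t * r) = algebraMap R Rm (s * r') := by
    rw [map_mul, map_mul, ← hrt, h4]
    ring
  obtain ⟨c, hc⟩ := (IsLocalization.eq_iff_exists m.primeCompl Rm).mp h5
  have h6 : (c : R) * t ∈ I := by
    refine ⟨c * r', ?_⟩
    have hsu := IsLocalization.map_units S s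
    apply hsu.mul_left_cancel
    rw [← map_mul]
    have h7 : (s : R) * (c * r') = c * (t * r) := by
      rw [hc]; ring
    rw [h7, map_mul, map_mul, map_mul, ← hrs]
    ring
  exact (m.primeCompl.mul_mem c.2 t.2) (hIm h6)

/-- The integral closure of `B` in a quotient of the generic fibre of a finite flat normal `B`-algebra `R` is a direct
factor of `R`. -/
theorem exists_factor {B K L C R : Type u} [CommRing B] [IsDomain B] [Field K] [Algebra B K] [IsFractionRing B K]
    [CommRing L] [Algebra K L] [Algebra B L] [IsScalarTower B K L] [CommRing C] [Algebra B C] [Algebra C L]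
    [IsScalarTower B C L] [IsIntegralClosure C B L] [CommRing R] [Algebra B R] [Module.Finite B R] [Module.Flat B R]
    (hR : EGA4.IsNormalRing R) (α : R →ₐ[B] L)
    (hα : ∀ y : L, ∃ (b : B) (r : R), b ≠ 0 ∧ algebraMap B L b * y = α r) :
    ∃ ψ : R →ₐ[B] C, (∀ r, algebraMap C L (ψ r) = α r) ∧ Function.Surjective ψ ∧ ψ.toRingHom.Etale ∧
      Module.Finite B C ∧ Module.Flat B C := by
  classical
  let M' := Algebra.algebraMapSubmonoid R (nonZeroDivisors B)
  have hM' : M' ≤ nonZeroDivisors R := by
    rintro _ ⟨b, hb, rfl⟩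
    rw [mem_nonZeroDivisors_iff_right]
    intro r hr
    have hb0 : b ≠ 0 := nonZeroDivisors.ne_zero hb
    have h1 : b • r = 0 := by rw [Algebra.smul_def, mul_comm]; exact hr
    exact (smul_eq_zero.mp h1).resolve_left hb0
  let S := Localization M'
  let _ : Algebra K S := localizationAlgebra (nonZeroDivisors B) R
  have hBKS : IsScalarTower B K S := IsScalarTower.of_algebraMap_eq fun b => by
    rw [IsScalarTower.algebraMap_apply B R S]
    exact (IsLocalization.map_eq (S := K) (Q := S)
      (show nonZeroDivisors B ≤ M'.comap (algebraMap B R) from (nonZeroDivisors B).le_comap_map) b).symm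
  have hfin : Module.Finite K S := Module.Finite.of_isLocalization B R (nonZeroDivisors B)
  have hart : IsArtinianRing S := IsArtinianRing.of_finite K S
  have hRred : IsReduced R := Groth.Agent.Ega4B.AnUnram.isReduced_of_isNormalRing R hR
  have hinj : Function.Injective (algebraMap R S) := IsLocalization.injective S hM'
  have hSred : IsReduced S := isReduced_localizationPreserves M' S hRred
  have hss : IsSemisimpleRing S := IsArtinianRing.isSemisimpleRing_of_isReduced S
  have hBL : ∀ b : B, b ≠ 0 → IsUnit (algebraMap B L b) := fun b hb => by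
    rw [IsScalarTower.algebraMap_apply B K L]
    exact (IsUnit.mk0 _ ((map_ne_zero_iff _ (IsFractionRing.injective B K)).mpr hb)).map _
  have hunit : ∀ s : M', IsUnit (α.toRingHom s) := by
    rintro ⟨_, b, hb, rfl⟩
    change IsUnit (α (algebraMap B R b))
    rw [α.commutes]
    exact hBL b (nonZeroDivisors.ne_zero hb)
  let α' : S →+* L := IsLocalization.lift hunit
  have hα' : ∀ r, α' (algebraMap R S r) = α r := fun r => IsLocalization.lift_eq hunit r
  obtain ⟨e', he', hspan⟩ := IsSemisimpleRing.ideal_eq_span_idempotent (RingHom.ker α')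
  have hker : ∀ y, α' y = 0 → (1 - e') * y = 0 := by
    intro y hy
    have h1 : y ∈ RingHom.ker α' := hy
    rw [hspan, Ideal.mem_span_singleton'] at h1
    obtain ⟨c, rfl⟩ := h1
    have h2 : e' * e' = e' := he'
    linear_combination (-c) * h2
  have hα'e : α' (1 - e') = 1 := by
    have h1 : e' ∈ RingHom.ker α' := by rw [hspan]; exact Ideal.mem_span_singleton_self e'
    rw [map_sub, map_one, (show α' e' = 0 from h1), sub_zero]
  have he2 : (1 - e') * (1 - e') = 1 - e' := he'.one_sub
  obtain ⟨e₀, he₀⟩ : (1 - e') ∈ Set.range (algebraMap R S) := by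
    apply mem_range_of_isIntegral hR M' hM'
    refine ⟨X ^ 2 - X, by monicity!, ?_⟩
    rw [Polynomial.eval₂_sub, Polynomial.eval₂_X_pow, Polynomial.eval₂_X, pow_two, he2, sub_self]
  have hidem : IsIdempotentElem e₀ := by
    apply hinj
    rw [map_mul, he₀, he2]
  let _ : Algebra R L := α.toRingHom.toAlgebra
  have htow : IsScalarTower B R L := IsScalarTower.of_algebraMap_eq fun b => (α.commutes b).symm
  let ψ : R →ₐ[B] C := IsIntegralClosure.lift B C L
  have hψ : ∀ r, algebraMap C L (ψ r) = α r := fun r => IsIntegralClosure.algebraMap_lift B C L r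
  have hCL : Function.Injective (algebraMap C L) := IsIntegralClosure.algebraMap_injective C B L
  have hkerψ : ∀ r, ψ r = 0 ↔ e₀ * r = 0 := by
    intro r
    constructor
    · intro h
      apply hinj
      rw [map_mul, he₀, map_zero]
      apply hker
      rw [hα', ← hψ, h, map_zero]
    · intro h
      apply hCL
      rw [hψ, map_zero, ← hα', ← one_mul (α' _), ← hα'e, ← he₀, ← map_mul, ← map_mul, h, map_zero, map_zero]
  have hsurj : Function.Surjective ψ := by
    intro c
    obtain ⟨p, hp, hpc⟩ := IsIntegralClosure.isIntegral B L c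
    obtain ⟨b, r, hb, hbr⟩ := hα (algebraMap C L c)
    let y : S := IsLocalization.mk' S r (⟨algebraMap B R b, b, mem_nonZeroDivisors_of_ne_zero hb, rfl⟩ : M')
    have hy : α' y = algebraMap C L c := by
      have h1 : algebraMap R S (algebraMap B R b) * y = algebraMap R S r := by
        rw [mul_comm]
        exact IsLocalization.mk'_spec S r _
      have h2 := congrArg α' h1
      rw [map_mul, hα', hα', α.commutes, ← hbr] at h2
      exact (hBL b hb).mul_left_cancel h2
    have hcomp : α'.comp (algebraMap B S) = (algebraMap C L).comp (algebraMap B C) := by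
      refine RingHom.ext fun a => ?_
      rw [RingHom.comp_apply, RingHom.comp_apply, IsScalarTower.algebraMap_apply B R S, hα', α.commutes,
        ← IsScalarTower.algebraMap_apply]
    have h3 : (1 - e') * p.eval₂ (algebraMap B S) y = 0 := by
      apply hker
      rw [Polynomial.hom_eval₂, hy, hcomp, ← Polynomial.hom_eval₂, hpc, map_zero]
    have h4 : ∀ q : B[X], (1 - e') * q.eval₂ (algebraMap B S) ((1 - e') * y) =
        (1 - e') * q.eval₂ (algebraMap B S) y := by
      intro q
      induction q using Polynomial.induction_on' with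
      | add f g hf hg => rw [Polynomial.eval₂_add, Polynomial.eval₂_add, mul_add, mul_add, hf, hg]
      | monomial n a =>
        have h6 := IsIdempotentElem.pow_succ_eq n (show IsIdempotentElem (1 - e') from he2)
        rw [Polynomial.eval₂_monomial, Polynomial.eval₂_monomial, mul_pow]
        calc (1 - e') * (algebraMap B S a * ((1 - e') ^ n * y ^ n)) = (1 - e') ^ (n + 1) * (algebraMap B S a * y ^ n) := by ring
          _ = _ := by rw [h6]
    have h5 : IsIntegral R ((1 - e') * y) := by
      refine IsIntegral.tower_top (R := B) ⟨X * p, Polynomial.monic_X.mul hp, ?_⟩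
      rw [Polynomial.eval₂_mul, Polynomial.eval₂_X, mul_comm (1 - e') y, mul_assoc, mul_comm y (1 - e'), h4, h3, mul_zero]
    obtain ⟨r', hr'⟩ := mem_range_of_isIntegral hR M' hM' _ h5
    refine ⟨r', hCL ?_⟩
    rw [hψ, ← hα', hr', map_mul, hα'e, one_mul, hy]
  let _ : Algebra R C := ψ.toRingHom.toAlgebra
  have htow' : IsScalarTower B R C := IsScalarTower.of_algebraMap_eq fun b => (ψ.commutes b).symm
  have haway : IsLocalization.Away e₀ C := by
    refine IsLocalization.away_of_isIdempotentElem_of_mul hidem (fun x y => ?_) hsurj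
    rw [← sub_eq_zero, ← map_sub, ← sub_eq_zero (a := e₀ * x), ← mul_sub]
    exact hkerψ (x - y)
  have hetale : Algebra.Etale R C := Algebra.Etale.of_isLocalizationAway e₀
  have hflat : Module.Flat R C := IsLocalization.flat C (Submonoid.powers e₀)
  exact ⟨ψ, hψ, hsurj, RingHom.etale_algebraMap.mpr hetale, Module.Finite.of_surjective ψ.toLinearMap hsurj,
    Module.Flat.trans B R C⟩

open Groth.Agent.CurvesC.NodeEt Groth.Agent.Pi1.H390.T1KumRing

/-- A smooth algebra over a field is normal. -/
theorem isNormalRing_of_smooth (k B : Type u) [Field k] [CommRing B] [Algebra k B] [Algebra.Smooth k B] :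
    EGA4.IsNormalRing B := by
  intro q hq
  have : Algebra.IsSmoothAt k q := Algebra.FormallySmooth.comp k B _
  refine Groth.Agent.Desc.NormalSmooth.normalAt_of_isSmoothAt (A := k) q ?_
  exact ⟨inferInstance, isIntegrallyClosed_of_isLocalization _ (q.under k).primeCompl
    (q.under k).primeCompl_le_nonZeroDivisors⟩

/-- The algebra obtained by adjoining an `N`-th root of a unit or of an étale coordinate has étale coordinates. -/
theorem adjoin_coord {k B : Type u} [Field k] [CommRing B] [Algebra k B] {n : ℕ} {x : Fin n → B}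
    (hx : IsEtaleCoord k x) {N : ℕ} (hN : (N : k) ≠ 0) (c : B) (ε : Option (Fin n))
    (hε : ε = none → IsUnit c) (hε' : ∀ j, ε = some j → c = x j) :
    ∃ x' : Fin n → AdjoinRoot (pol N c), IsEtaleCoord k x' ∧
      (∀ i, ε ≠ some i → x' i = AdjoinRoot.of (pol N c) (x i)) ∧
      ∀ j, ε = some j → x' j = AdjoinRoot.root (pol N c) := by
  have hN0 : N ≠ 0 := by rintro rfl; exact hN Nat.cast_zero
  cases ε with
  | none =>
    have hNB : IsUnit ((N : ℕ) : B) := by
      rw [← map_natCast (algebraMap k B)]
      exact (IsUnit.mk0 _ hN).map _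
    let ψ : B →ₐ[k] AdjoinRoot (pol N c) := IsScalarTower.toAlgHom k B _
    refine ⟨fun i => ψ (x i), hx.comp ψ (etale_of hN0 c (hε rfl) hNB), fun i _ => rfl, fun j hj => ?_⟩
    exact absurd hj (by simp)
  | some j =>
    obtain rfl := hε' j rfl
    refine ⟨_, K926.Coord.coord_root hx j N, fun i hi => ?_, fun i hi => ?_⟩
    · exact Function.update_of_ne (fun h => hi (by rw [h])) _ _
    · obtain rfl : j = i := Option.some.inj hi
      exact Function.update_self _ _ _

/-- One root: the integral closure of `B` in the extension `L` of its fraction field generated by an `N`-th root of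
a unit or of an étale coordinate. -/
theorem exists_coord_root {k B K L C : Type u} [Field k] [CommRing B] [IsDomain B] [Algebra k B] [Field K]
    [Algebra B K] [IsFractionRing B K] [CommRing L] [Algebra K L] [Algebra B L] [IsScalarTower B K L] [CommRing C]
    [Algebra B C] [Algebra C L] [Algebra k C] [IsScalarTower k B C] [IsScalarTower B C L] [IsIntegralClosure C B L]
    {n : ℕ} {x : Fin n → B} (hx : IsEtaleCoord k x) {N : ℕ} (hN : (N : k) ≠ 0) (c : B) (ε : Option (Fin n))
    (hε : ε = none → IsUnit c) (hε' : ∀ j, ε = some j → c = x j) (ρ : L) (hρ : ρ ^ N = algebraMap B L c)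
    (hgen : Algebra.adjoin K {ρ} = ⊤) :
    ∃ x' : Fin n → C, IsEtaleCoord k x' ∧ (∀ i, ε ≠ some i → x' i = algebraMap B C (x i)) ∧
      (∀ j, ε = some j → algebraMap C L (x' j) = ρ) ∧ Module.Finite B C ∧ Module.Flat B C := by
  have hN0 : N ≠ 0 := by rintro rfl; exact hN Nat.cast_zero
  obtain ⟨x₁, hx₁, h1, h2⟩ := adjoin_coord hx hN c ε hε hε'
  have hsm : Algebra.Smooth k (AdjoinRoot (pol N c)) := hx₁.smooth
  have hnorm := isNormalRing_of_smooth k (AdjoinRoot (pol N c))
  have hfin : Module.Finite B (AdjoinRoot (pol N c)) := (monic_pol hN0 c).finite_adjoinRoot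
  have hfree : Module.Free B (AdjoinRoot (pol N c)) := (monic_pol hN0 c).free_adjoinRoot
  let α : AdjoinRoot (pol N c) →ₐ[B] L :=
    { AdjoinRoot.lift (algebraMap B L) ρ (eval_pol N _ c ρ hρ) with
      commutes' := fun b => AdjoinRoot.lift_of _ }
  have hαr : α (AdjoinRoot.root _) = ρ := AdjoinRoot.lift_root (eval_pol N _ c ρ hρ)
  have hα : ∀ y : L, ∃ (b : B) (r : AdjoinRoot (pol N c)), b ≠ 0 ∧ algebraMap B L b * y = α r := by
    intro y
    have hy : y ∈ Algebra.adjoin K {ρ} := by rw [hgen]; trivial
    obtain ⟨q, rfl⟩ := Algebra.adjoin_singleton_eq_range_aeval K ρ ▸ hy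
    obtain ⟨b, hb, hbq⟩ := IsLocalization.integerNormalization_spec (nonZeroDivisors B) q
    refine ⟨b, AdjoinRoot.mk _ (IsLocalization.integerNormalization (nonZeroDivisors B) q), nonZeroDivisors.ne_zero hb, ?_⟩
    have h3 : α (AdjoinRoot.mk _ (IsLocalization.integerNormalization (nonZeroDivisors B) q)) =
        (IsLocalization.integerNormalization (nonZeroDivisors B) q).eval₂ (algebraMap B L) ρ :=
      AdjoinRoot.lift_mk (eval_pol N _ c ρ hρ) _
    have h4 : (algebraMap B K b) • q = b • q := by
      ext i
      rw [coeff_smul, coeff_smul, algebraMap_smul]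
    rw [h3, IsScalarTower.algebraMap_eq B K L, ← Polynomial.eval₂_map, hbq, ← h4, Polynomial.eval₂_smul]
    rfl
  obtain ⟨ψ, hψ, -, hψe, hf, hfl⟩ := exists_factor (K := K) (L := L) (C := C) hnorm α hα
  let ψ' : AdjoinRoot (pol N c) →ₐ[k] C :=
    { ψ.toRingHom with
      commutes' := fun a => by
        change ψ (algebraMap k _ a) = _
        rw [IsScalarTower.algebraMap_apply k B (AdjoinRoot (pol N c)), ψ.commutes, ← IsScalarTower.algebraMap_apply] }
  refine ⟨fun i => ψ (x₁ i), ?_, fun i hi => ?_, fun j hj => ?_, hf, hfl⟩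
  · exact hx₁.comp ψ' hψe
  · change ψ (x₁ i) = _
    rw [h1 i hi]
    exact ψ.commutes _
  · rw [hψ, h2 j hj, hαr]

/-- Several roots: the integral closure of `B` in the field generated over its fraction field by roots of units and
of pairwise different étale coordinates. -/
theorem exists_coord_roots {k : Type u} [Field k] {n : ℕ} (m : ℕ) : ∀ {B K L C : Type u} [CommRing B] [IsDomain B]
    [Algebra k B] [Field K] [Algebra B K] [IsFractionRing B K] [Field L] [Algebra K L] [Algebra B L]
    [IsScalarTower B K L] [CommRing C] [Algebra B C] [Algebra C L] [Algebra k C] [IsScalarTower k B C]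
    [IsScalarTower B C L] [IsIntegralClosure C B L] (x : Fin n → B) (_ : IsEtaleCoord k x) (N : Fin m → ℕ)
    (_ : ∀ i, (N i : k) ≠ 0) (c : Fin m → B) (ε : Fin m → Option (Fin n))
    (_ : ∀ i i' j, ε i = some j → ε i' = some j → i = i') (_ : ∀ i, ε i = none → IsUnit (c i))
    (_ : ∀ i j, ε i = some j → c i = x j) (ρ : Fin m → L) (_ : ∀ i, ρ i ^ N i = algebraMap B L (c i))
    (_ : Algebra.adjoin K (Set.range ρ) = ⊤),
    ∃ x' : Fin n → C, IsEtaleCoord k x' ∧ (∀ j, (∀ i, ε i ≠ some j) → x' j = algebraMap B C (x j)) ∧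
      (∀ i j, ε i = some j → algebraMap C L (x' j) = ρ i) ∧ Module.Finite B C ∧ Module.Flat B C := by
  induction m with
  | zero =>
    intro B K L C _ _ _ _ _ _ _ _ _ _ _ _ _ _ _ _ _ x hx N hN c ε hinj hε hε' ρ hρ hgen
    have h1 : Algebra.adjoin K {(1 : L)} = ⊤ := by
      rw [eq_top_iff, ← hgen]
      apply Algebra.adjoin_le
      rintro _ ⟨i, -⟩
      exact i.elim0
    obtain ⟨x', h2, h3, -, h4, h5⟩ := exists_coord_root (K := K) (L := L) (C := C) hx (N := 1)
      (by rw [Nat.cast_one]; exact one_ne_zero) 1 none (fun _ => isUnit_one) (fun j hj => absurd hj (by simp)) (1 : L)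
      (by rw [map_one, one_pow]) h1
    exact ⟨x', h2, fun j _ => h3 j (by simp), fun i => i.elim0, h4, h5⟩
  | succ m ih =>
    intro B K L C _ _ _ _ _ _ _ _ _ _ _ _ _ _ _ _ _ x hx N hN c ε hinj hε hε' ρ hρ hgen
    have hN0 : N 0 ≠ 0 := fun h => hN 0 (by rw [h, Nat.cast_zero])
    have hint : IsIntegral K (ρ 0) := by
      refine ⟨X ^ N 0 - Polynomial.C (algebraMap B K (c 0)), monic_X_pow_sub_C _ hN0, ?_⟩
      rw [eval₂_sub, eval₂_X_pow, eval₂_C, hρ, IsScalarTower.algebraMap_apply B K L, sub_self]
    let L₁ : IntermediateField K L := IntermediateField.adjoin K {ρ 0}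
    let ρ₁ : L₁ := IntermediateField.AdjoinSimple.gen K (ρ 0)
    have hfd : FiniteDimensional K L₁ := IntermediateField.adjoin.finiteDimensional hint
    have hρ₁ : algebraMap L₁ L ρ₁ = ρ 0 := rfl
    have hgen₁ : Algebra.adjoin K {ρ₁} = ⊤ := by
      have h1 := (IntermediateField.adjoin.powerBasis hint).adjoin_gen_eq_top
      rwa [IntermediateField.adjoin.powerBasis_gen] at h1
    have htow₁ : IsScalarTower B K L₁ := inferInstance
    have hBL₁ : ∀ b : B, algebraMap L₁ L (algebraMap B L₁ b) = algebraMap B L b := fun b => rfl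
    have hρ₁' : ρ₁ ^ N 0 = algebraMap B L₁ (c 0) := by
      apply (algebraMap L₁ L).injective
      rw [map_pow, hρ₁, hρ, hBL₁]
    let B₁ := integralClosure B L₁
    let _ : Algebra k B₁ := ((algebraMap B B₁).comp (algebraMap k B)).toAlgebra
    have htk : IsScalarTower k B B₁ := IsScalarTower.of_algebraMap_eq fun _ => rfl
    obtain ⟨x₁, hx₁, h1, h2, hf₁, hfl₁⟩ := exists_coord_root (K := K) (L := L₁) (C := B₁) hx (hN 0) (c 0) (ε 0) (hε 0)
      (hε' 0) ρ₁ hρ₁' hgen₁
    have hfr : IsFractionRing B₁ L₁ := integralClosure.isFractionRing_of_finite_extension K L₁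
    have htow2 : IsScalarTower B₁ L₁ L := inferInstance
    have htow3 : IsScalarTower B B₁ L := IsScalarTower.of_algebraMap_eq fun _ => rfl
    let lft : B₁ →ₐ[B] C := IsIntegralClosure.lift B C L
    have hlft : ∀ b, algebraMap C L (lft b) = algebraMap B₁ L b := fun b => IsIntegralClosure.algebraMap_lift B C L b
    let _ : Algebra B₁ C := lft.toRingHom.toAlgebra
    have htow4 : IsScalarTower B₁ C L := IsScalarTower.of_algebraMap_eq fun b => (hlft b).symm
    have htow5 : IsScalarTower B B₁ C := IsScalarTower.of_algebraMap_eq fun b => (lft.commutes b).symm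
    have htow6 : IsScalarTower k B₁ C := IsScalarTower.of_algebraMap_eq fun b => by
      rw [IsScalarTower.algebraMap_apply k B C, IsScalarTower.algebraMap_apply k B B₁,
        ← IsScalarTower.algebraMap_apply B B₁ C]
    have hic : IsIntegralClosure C B₁ L := IsIntegralClosure.tower_top (R := B)
    obtain ⟨x', g1, g2, g3, g4, g5⟩ := ih (K := L₁) (L := L) (C := C) x₁ hx₁ (fun i => N i.succ) (fun i => hN _)
      (fun i => algebraMap B B₁ (c i.succ)) (fun i => ε i.succ)
      (fun i i' j h h' => Fin.succ_injective _ (hinj _ _ _ h h')) (fun i h => (hε _ h).map _)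
      (fun i j h => by
        rw [hε' _ _ h, h1 j]
        intro h0
        exact Fin.succ_ne_zero i (hinj _ _ _ h h0)) (fun i => ρ i.succ)
      (fun i => by
        rw [hρ, ← IsScalarTower.algebraMap_apply])
      (by
        rw [eq_top_iff]
        intro y _
        have hy : y ∈ Algebra.adjoin K (Set.range ρ) := by rw [hgen]; trivial
        have hle : Algebra.adjoin K (Set.range ρ) ≤
            (Algebra.adjoin L₁ (Set.range fun i : Fin m => ρ i.succ)).restrictScalars K := by
          apply Algebra.adjoin_le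
          rintro _ ⟨i, rfl⟩
          cases i using Fin.cases with
          | zero => exact (Algebra.adjoin L₁ (Set.range fun i : Fin m => ρ i.succ)).algebraMap_mem ρ₁
          | succ i => exact Algebra.subset_adjoin ⟨i, rfl⟩
        exact hle hy)
    refine ⟨x', g1, fun j hj => ?_, fun i j hj => ?_, Module.Finite.trans B₁ C, Module.Flat.trans B B₁ C⟩
    · rw [g2 j fun i => hj i.succ, h1 j (hj 0), ← IsScalarTower.algebraMap_apply]
    · cases i using Fin.cases with
      | zero =>
        rw [g2 j, ← IsScalarTower.algebraMap_apply B₁ C L, IsScalarTower.algebraMap_apply B₁ L₁ L, h2 j hj, hρ₁]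
        intro i hi
        exact Fin.succ_ne_zero i (hinj _ _ _ hi hj)
      | succ i => exact g3 i j hj

end K27.KumRing
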