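import Groth.Agent.Vanish.K27.JetSys
import Groth.Agent.Vanish.K911.Ncd
import Groth.Agent.Dix.IdealModCartier
import Groth.Agent.CycCov.K926.LocW
import Groth.Agent.Ega2.TensMon
import Mathlib.Algebra.MvPolynomial.Funext

/-!
# Sections of powers of an ample module vanishing along the components of a normal crossing divisor
-/

set_option autoImplicit false
universe u

open CategoryTheory CategoryTheory.Limits AlgebraicGeometry Opposite TopologicalSpace
open Groth.Agent.Fdesc.LocGen K27.SecScal K27.JetMain K27.JetSys K27.ChartBert K27.Main0 K27.Bert0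
open Groth.Agent.Dix.IdealModCartier

namespace K27.Members

variable {X : Scheme.{u}}

/-- Multiplication of the ideal module into a module. -/
noncomputable def theta (I : X.IdealSheafData) (B : X.Modules) :
    CohB1.tensorMod (ClSub.idealMod I) B ⟶ B :=
  Groth.Agent.Ega2.Tens.mapT (ClSub.idealModι I) (𝟙 B) ≫ (Groth.Agent.Ega2.Tens.lunit B).hom

theorem theta_tmul (I : X.IdealSheafData) (B : X.Modules) {U : X.Opens} (t : Γ(ClSub.idealMod I, U)) (b : Γ(B, U)) :
    (theta I B).app U (Groth.Agent.Fdesc.LocGen.tmul t b) = val I t • b := by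
  rw [← Groth.Agent.Ega2.TensGen.tmul_eq, theta]
  rw [Scheme.Modules.Hom.comp_app]
  change (Groth.Agent.Ega2.Tens.lunit B).hom.app U ((Groth.Agent.Ega2.Tens.mapT (ClSub.idealModι I) (𝟙 B)).app U
    (Groth.Agent.Ega2.Tens.tmul t b)) = _
  rw [Groth.Agent.Ega2.Tens.mapT_tmul]
  exact Groth.Agent.Ega2.Tens.lunit_hom_tmul (val I t) b

/-- The zero scheme of a section of `I ⊗ B`, regarded as a section of `B`. -/
theorem zeroScheme_comp_theta {I : X.IdealSheafData} (hI : BlowUp.IsEffCartierIdeal I) {B : X.Modules}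
    (hB : PicF.IsInvertible B) (h : Coh.structureModule X ⟶ CohB1.tensorMod (ClSub.idealMod I) B) :
    PicF2.zeroScheme B (h ≫ theta I B) = I * PicF2.zeroScheme _ h := by
  ext U : 2
  apply K926.Loc.ideal_eq_of_nhds
  intro x hx
  obtain ⟨U₁, hU₁, hxU₁, -, b, hb⟩ := Groth.Agent.Pi1C.ZeroScheme.exists_affine_isGen hB ⊤ x trivial
  obtain ⟨U₂, hU₂, hxU₂, hU₂₁, t, ht⟩ := Groth.Agent.Pi1C.ZeroScheme.exists_affine_isGen (isInvertible_idealMod hI) U₁ x hxU₁
  have hb₂ := hb.res hU₂₁
  obtain ⟨a, ha⟩ := (ht.tmul hb₂).exists_eq (sec h U₂)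
  refine ⟨⟨U₂, hU₂⟩, hxU₂, ?_⟩
  have h1 : (PicF2.zeroScheme _ h).ideal ⟨U₂, hU₂⟩ = Ideal.span {a} :=
    Groth.Agent.Pi1C.ZeroScheme.ideal_eq_span h (isInvertible_tensorMod (isInvertible_idealMod hI) hB) ⟨U₂, hU₂⟩
      (ht.tmul hb₂) ha
  have h2 : sec (h ≫ theta I B) U₂ = (a * val I t) • res B hU₂₁ b := by
    rw [sec_comp, ha, mul_smul]
    exact (Scheme.Modules.Hom.app_smul (theta I B) a _).trans (congrArg (a • ·) (theta_tmul I B t _))
  have h3 : (PicF2.zeroScheme B (h ≫ theta I B)).ideal ⟨U₂, hU₂⟩ = Ideal.span {a * val I t} :=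
    Groth.Agent.Pi1C.ZeroScheme.ideal_eq_span _ hB ⟨U₂, hU₂⟩ hb₂ h2
  have h4 : I.ideal ⟨U₂, hU₂⟩ = Ideal.span {val I t} := by
    have h5 := (genOn_of_isGen ht ⟨U₂, hU₂⟩ le_rfl).2
    rwa [ores_refl] at h5
  rw [h3, Scheme.IdealSheafData.ideal_mul, Pi.mul_apply, h1, h4, Ideal.span_singleton_mul_span_singleton, mul_comm]

variable {k : Type u} [Field k] [X.Over (Spec (CommRingCat.of k))]

/-- General members of several linear systems. -/
theorem exists_members_fam [IsAlgClosed k] [Smooth (X ↘ Spec (CommRingCat.of k))] [CompactSpace X] {r : ℕ}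
    {D : Fin r → X.IdealSheafData} (hD : LogNCD.IsNCD D (X ↘ Spec (CommRingCat.of k))) (n : ℕ) :
    ∀ (M : Fin n → X.Modules) (_ : ∀ i, PicF.IsInvertible (M i))
      (_ : ∀ i, ∃ (N : ℕ) (s : Fin N → (Coh.structureModule X ⟶ M i)), JetGen k s),
      ∃ h : ∀ i, Coh.structureModule X ⟶ M i,
        LogNCD.IsNCD (Fin.append D (fun i => PicF2.zeroScheme (M i) (h i))) (X ↘ Spec (CommRingCat.of k)) := by
  induction n with
  | zero =>
    intro M _ _
    refine ⟨fun i => i.elim0, ?_⟩
    have h1 : Fin.append D (fun i : Fin 0 => PicF2.zeroScheme (M i) (i.elim0)) = D := by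
      funext i
      have h2 : i = Fin.castAdd 0 i := rfl
      rw [h2, Fin.append_left]
      rfl
    rw [h1]
    exact hD
  | succ n ih =>
    intro M hM hj
    obtain ⟨h, hh⟩ := ih (fun i => M i.castSucc) (fun i => hM _) (fun i => hj _)
    obtain ⟨N, s, hs⟩ := hj (Fin.last n)
    obtain ⟨p, hp, hp'⟩ := exists_poly_isNCD hh (hM (Fin.last n)) s hs
    obtain ⟨c, hc⟩ : ∃ c : Fin N → k, MvPolynomial.eval c p ≠ 0 := by
      by_contra hcon
      push Not at hcon
      exact hp (MvPolynomial.funext fun c => by rw [hcon, map_zero])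
    have h1 := hp' c hc
    refine ⟨Fin.snoc (α := fun i => (Coh.structureModule X ⟶ M i)) h (member k s c), ?_⟩
    have h4 : Fin.append D (fun j => PicF2.zeroScheme (M j)
        (Fin.snoc (α := fun i => (Coh.structureModule X ⟶ M i)) h (member k s c) j)) =
        snocD (Fin.append D (fun j => PicF2.zeroScheme (M j.castSucc) (h j)))
          (PicF2.zeroScheme (M (Fin.last n)) (member k s c)) := by
      funext i
      refine Fin.addCases (fun i => ?_) (fun i => ?_) i
      · rw [Fin.append_left]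
        have h5 : Fin.castAdd (n + 1) i = Fin.castSucc (Fin.castAdd n i) := rfl
        rw [h5, snocD, Fin.snoc_castSucc, Fin.append_left]
      · rw [Fin.append_right]
        refine Fin.lastCases ?_ (fun i => ?_) i
        · have h5 : Fin.natAdd r (Fin.last n) = Fin.last (r + n) := rfl
          rw [h5, snocD, Fin.snoc_last, Fin.snoc_last]
        · have h5 : Fin.natAdd r (Fin.castSucc i) = Fin.castSucc (Fin.natAdd r i) := rfl
          rw [h5, snocD, Fin.snoc_castSucc, Fin.snoc_castSucc, Fin.append_right]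
    rw [h4]
    exact h1

/-- **Sections of a power of an ample module vanishing on the components of a normal crossing divisor** and on further
divisors, which together with the given one have normal crossings. -/
theorem exists_sections [IsAlgClosed k] [Smooth (X ↘ Spec (CommRingCat.of k))] [QuasiSeparatedSpace X] [IsIntegral X]
    {A : X.Modules} (hA : CohB1.IsAmple A) {r : ℕ} {D : Fin r → X.IdealSheafData}
    (hD : LogNCD.IsNCD D (X ↘ Spec (CommRingCat.of k))) (n : ℕ) (q : ℕ) (hq : 0 < q) (a : Fin n → Fin r) :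
    ∃ (P : ℕ) (s : Fin n → (Coh.structureModule X ⟶ CohB1.tensorPow A P)) (E : Fin n → X.IdealSheafData), q ∣ P ∧
      LogNCD.IsNCD (Fin.append D E) (X ↘ Spec (CommRingCat.of k)) ∧
      ∀ i, PicF2.zeroScheme _ (s i) = D (a i) * E i := by
  have hcomp : CompactSpace X := hA.2.1
  have hDeff : ∀ i, BlowUp.IsEffCartierIdeal (D i) := K911.Ncd.isEff_of_isNCD hD
  have hM : ∀ i, PicF.IsInvertible (ClSub.idealMod (D i)) := fun i => isInvertible_idealMod (hDeff i)
  choose m₀ hm₀ using fun i : Fin n => exists_jetGen (k := k) hA (hM (a i))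
  obtain ⟨P, hP, hqP⟩ : ∃ P, (∀ i, m₀ i ≤ P) ∧ q ∣ P :=
    ⟨q * Finset.univ.sup m₀, fun i => (Finset.le_sup (Finset.mem_univ i)).trans (Nat.le_mul_of_pos_left _ hq),
      dvd_mul_right _ _⟩
  have hB : PicF.IsInvertible (CohB1.tensorPow A P) := isInvertible_tensorPow hA.1 P
  obtain ⟨h, hh⟩ := exists_members_fam hD n (fun i => CohB1.tensorMod (ClSub.idealMod (D (a i))) (CohB1.tensorPow A P))
    (fun i => isInvertible_tensorMod (hM (a i)) hB) (fun i => hm₀ i P (hP i))
  exact ⟨P, fun i => h i ≫ theta _ _, fun i => PicF2.zeroScheme _ (h i), hqP, hh,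
    fun i => zeroScheme_comp_theta (hDeff (a i)) hB (h i)⟩

end K27.Members
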