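import Mathlib.RingTheory.Adjoin.Basic
import Mathlib.Algebra.Algebra.Field
import Mathlib.Tactic.FieldSimp
import Mathlib.Data.Fin.Tuple.Basic

/-!
# Change of the generating roots
-/

set_option autoImplicit false
universe u

namespace K27.RootAlg

theorem exists_rho {K L : Type u} [Field K] [Field L] [Algebra K L] {n r : ℕ} (a : Fin n → Fin r) (i₀ : Fin r → Fin n)
    (ha : ∀ j, a (i₀ j) = j) (Nj : Fin r → ℕ) (P : ℕ) (q : Fin r → ℕ) (hq : ∀ j, P = q j * Nj j) (γ c : Fin n → K)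
    (w : K) (hw : w ≠ 0) (hγ : ∀ i, γ i = c i * w ^ P) (hc : ∀ j, c (i₀ j) ≠ 0) (R : Fin n → L)
    (hR : ∀ i, R i ^ Nj (a i) = algebraMap K L (γ i)) (N : ℕ) (α : Fin r → ℕ) (hα : ∀ j, α j ≠ 0 → Nj j = N)
    (τ γt ct wB : K) (hwB : wB ≠ 0) (hγt : γt = ct * wB ^ N) (hct : ct = τ * ∏ j, c (i₀ j) ^ α j)
    (hNj : ∀ j, Nj j ≠ 0) (S : L) (hS : S ^ N = algebraMap K L γt) :
    ∃ ρ : Fin (n + 1) → L, (∀ i, i = i₀ (a i) → ρ (Fin.castSucc i) ^ Nj (a i) = algebraMap K L (c i)) ∧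
      (∀ i, i ≠ i₀ (a i) → ρ (Fin.castSucc i) ^ Nj (a i) = algebraMap K L (c i / c (i₀ (a i)))) ∧
      ρ (Fin.last n) ^ N = algebraMap K L τ ∧
      (Algebra.adjoin K (Set.range R ∪ {S}) = ⊤ → Algebra.adjoin K (Set.range ρ) = ⊤) := by
  classical
  have hinj : Function.Injective (algebraMap K L) := (algebraMap K L).injective
  have hwL : algebraMap K L w ≠ 0 := (map_ne_zero_iff _ hinj).mpr hw
  have hwBL : algebraMap K L wB ≠ 0 := (map_ne_zero_iff _ hinj).mpr hwB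
  let ρ₁ : Fin n → L := fun i => if i = i₀ (a i) then R i / algebraMap K L w ^ q (a i) else R i / R (i₀ (a i))
  have h1 : ∀ i, i = i₀ (a i) → ρ₁ i ^ Nj (a i) = algebraMap K L (c i) := by
    intro i hi
    simp only [ρ₁, if_pos hi]
    rw [div_pow, hR, hγ, ← pow_mul, ← hq, map_mul, map_pow, mul_div_cancel_right₀ _ (pow_ne_zero _ hwL)]
  have hR0 : ∀ j, R (i₀ j) ≠ 0 := by
    intro j h0
    have h2 := hR (i₀ j)
    rw [h0, zero_pow (hNj _), hγ, eq_comm, map_eq_zero] at h2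
    exact (mul_ne_zero (hc j) (pow_ne_zero _ hw)) h2
  have h2 : ∀ i, i ≠ i₀ (a i) → ρ₁ i ^ Nj (a i) = algebraMap K L (c i / c (i₀ (a i))) := by
    intro i hi
    simp only [ρ₁, if_neg hi]
    have h3 := hR (i₀ (a i))
    rw [ha] at h3
    rw [div_pow, hR, h3, ← map_div₀, hγ, hγ, mul_div_mul_right _ _ (pow_ne_zero _ hw)]
  have hsp : ∀ j, i₀ j = i₀ (a (i₀ j)) := fun j => by rw [ha]
  have h3 : ∀ j, ρ₁ (i₀ j) ^ Nj j = algebraMap K L (c (i₀ j)) := fun j => by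
    have := h1 (i₀ j) (hsp j)
    rwa [ha] at this
  have hρ0 : ∀ j, ρ₁ (i₀ j) ≠ 0 := by
    intro j h0
    have h4 := h3 j
    rw [h0, zero_pow (hNj _), eq_comm, map_eq_zero] at h4
    exact hc j h4
  let Q : L := ∏ j, ρ₁ (i₀ j) ^ α j
  have hQ0 : Q ≠ 0 := Finset.prod_ne_zero_iff.mpr fun j _ => pow_ne_zero _ (hρ0 j)
  have hQ : Q ^ N = algebraMap K L (∏ j, c (i₀ j) ^ α j) := by
    rw [map_prod, ← Finset.prod_pow]
    refine Finset.prod_congr rfl fun j _ => ?_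
    by_cases hj : α j = 0
    · rw [hj, pow_zero, pow_zero, one_pow, map_one]
    · rw [map_pow, ← h3 j, hα j hj, ← pow_mul, ← pow_mul, mul_comm]
  refine ⟨Fin.snoc (α := fun _ => L) ρ₁ (S / (algebraMap K L wB * Q)), ?_, ?_, ?_, ?_⟩
  · intro i hi
    rw [Fin.snoc_castSucc]
    exact h1 i hi
  · intro i hi
    rw [Fin.snoc_castSucc]
    exact h2 i hi
  · rw [Fin.snoc_last, div_pow, mul_pow, hS, hQ, hγt, hct, map_mul, map_mul, map_pow]
    have h5 : algebraMap K L (∏ j, c (i₀ j) ^ α j) ≠ 0 := by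
      rw [← hQ]
      exact pow_ne_zero _ hQ0
    have h6 : algebraMap K L wB ^ N ≠ 0 := pow_ne_zero _ hwBL
    field_simp
  · intro hgen
    set T := Algebra.adjoin K (Set.range (Fin.snoc (α := fun _ => L) ρ₁ (S / (algebraMap K L wB * Q)) : Fin (n + 1) → L))
    have hρT : ∀ i, ρ₁ i ∈ T := fun i => Algebra.subset_adjoin ⟨Fin.castSucc i, Fin.snoc_castSucc _ _ _⟩
    have hST : S / (algebraMap K L wB * Q) ∈ T := Algebra.subset_adjoin ⟨Fin.last n, Fin.snoc_last _ _⟩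
    have hQT : Q ∈ T := T.prod_mem fun j _ => T.pow_mem (hρT _) _
    have hRs : ∀ i, i = i₀ (a i) → R i ∈ T := by
      intro i hi
      have h4 : R i = ρ₁ i * algebraMap K L w ^ q (a i) := by
        simp only [ρ₁, if_pos hi]
        rw [div_mul_cancel₀ _ (pow_ne_zero _ hwL)]
      rw [h4]
      exact T.mul_mem (hρT i) (T.pow_mem (T.algebraMap_mem _) _)
    have hRT : ∀ i, R i ∈ T := by
      intro i
      by_cases hi : i = i₀ (a i)
      · exact hRs i hi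
      · have h4 : R i = ρ₁ i * R (i₀ (a i)) := by
          simp only [ρ₁, if_neg hi]
          rw [div_mul_cancel₀ _ (hR0 _)]
        rw [h4]
        exact T.mul_mem (hρT i) (hRs _ (hsp _))
    rw [eq_top_iff, ← hgen]
    apply Algebra.adjoin_le
    rintro z (⟨i, rfl⟩ | hz)
    · exact hRT i
    · rw [Set.mem_singleton_iff] at hz
      rw [hz]
      have h4 : S = S / (algebraMap K L wB * Q) * (algebraMap K L wB * Q) := by
        rw [div_mul_cancel₀ _ (mul_ne_zero hwBL hQ0)]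
      change S ∈ T
      rw [h4]
      exact T.mul_mem hST (T.mul_mem (T.algebraMap_mem _) hQT)

end K27.RootAlg
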