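import Groth.Agent.CycCov.K27.KumCover
import Groth.Agent.CycCov.K27.Adapted
import Groth.Agent.CycCov.K27.Members
import Groth.Agent.CycCov.K27.Generic
import Groth.Agent.CycCov.K27.RootAlg

/-!
# Kummer charts from sections of powers of an invertible module
-/

set_option autoImplicit false
universe u

open CategoryTheory CategoryTheory.Limits AlgebraicGeometry Opposite TopologicalSpace
open Groth.Agent.Fdesc.LocGen K926.Frame K926.Str K27.Generic

namespace K27.LocalChart

/-- Kummer charts: `D` is a normal crossing divisor, `s i` sections of a power of an invertible module with divisors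
`D (a i) + E i`, `t` a section of an `N`-th power with divisor supported on `D`. -/
theorem hasChart {k : Type u} [Field k] {X : Scheme.{u}} [IsIntegral X] (f : X ⟶ Spec (CommRingCat.of k)) [Smooth f]
    {A : X.Modules} (hA : PicF.IsInvertible A) {r n : ℕ} {D : Fin r → X.IdealSheafData}
    {E : Fin n → X.IdealSheafData} (hDE : LogNCD.IsNCD (Fin.append D E) f) {P : ℕ}
    (s : Fin n → (Coh.structureModule X ⟶ CohB1.tensorPow A P)) (a : Fin n → Fin r)
    (hs : ∀ i, PicF2.zeroScheme _ (s i) = D (a i) * E i) (Nj : Fin r → ℕ) (hNk : ∀ j, (Nj j : k) ≠ 0) (q : Fin r → ℕ)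
    (hq : ∀ j, P = q j * Nj j) {x : X} (hcov : ∀ j : Fin r, ∃ i, a i = j ∧ x ∉ (E i).support)
    {U₀ : X.Opens} [Nonempty U₀] {e₀ : Γ(A, U₀)} (he₀ : IsGen e₀) (γ : Fin n → Γ(X, U₀))
    (hγ : ∀ i, sec (s i) U₀ = γ i • lp e₀ P)
    {B : X.Modules} (hB : PicF.IsInvertible B) {N : ℕ} (hN : (N : k) ≠ 0) (α : Fin r → ℕ)
    (t : Coh.structureModule X ⟶ CohB1.tensorPow B N)
    (ht : CycCov.IsZeroDiv (CohB1.tensorPow B N) t (CycCov.divIdeal D α)) (hα : ∀ j, α j ≠ 0 → Nj j = N)
    {b₀ : Γ(B, U₀)} (hb₀ : IsGen b₀) (γt : Γ(X, U₀)) (hγt : sec t U₀ = γt • lp b₀ N)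
    {L : Type u} [Field L] [Algebra X.functionField L] (R : Fin n → L)
    (hR : ∀ i, R i ^ Nj (a i) = algebraMap X.functionField L (algebraMap Γ(X, U₀) X.functionField (γ i)))
    (S : L) (hS : S ^ N = algebraMap X.functionField L (algebraMap Γ(X, U₀) X.functionField γt))
    (hgen : Algebra.adjoin X.functionField (Set.range R ∪ {S}) = ⊤) : KumCover.HasChart f L D Nj x := by
  classical
  have hNj : ∀ j, Nj j ≠ 0 := fun j h => hNk j (by rw [h, Nat.cast_zero])
  have hPinv : PicF.IsInvertible (CohB1.tensorPow A P) := isInvertible_tensorPow hA P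
  choose i₀ ha hi₀ using hcov
  -- the open
  obtain ⟨U₁, hU₁, hxU₁, -, e₁, he₁⟩ := Groth.Agent.Pi1C.ZeroScheme.exists_affine_isGen hA ⊤ x trivial
  obtain ⟨U₂, hU₂, hxU₂, hU₂₁, b₂, hb₂⟩ := Groth.Agent.Pi1C.ZeroScheme.exists_affine_isGen hB U₁ x hxU₁
  let O : X.Opens := ⟨(U₂ : Set X) ∩ ⋂ j, ((E (i₀ j)).support : Set X)ᶜ,
      U₂.2.inter (isOpen_iInter_of_finite fun j => (E (i₀ j)).support.isClosed.isOpen_compl)⟩
  obtain ⟨U, g, hxU, hUO, hg, hgn⟩ := K911.Ncd.exists_equations hDE x O ⟨hxU₂, Set.mem_iInter.mpr fun j => hi₀ j⟩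
  have hUU₂ : U.1 ≤ U₂ := fun y hy => (hUO hy).1
  have hne : Nonempty U.1 := ⟨⟨x, hxU⟩⟩
  obtain ⟨e, he⟩ : ∃ e : Γ(A, U.1), IsGen e := ⟨_, he₁.res (hUU₂.trans hU₂₁)⟩
  obtain ⟨b, hb⟩ : ∃ b : Γ(B, U.1), IsGen b := ⟨_, hb₂.res hUU₂⟩
  have hgD : ∀ j, (D j).ideal U = Ideal.span {g (Fin.castAdd n j)} := fun j => by
    have := hg (Fin.castAdd n j)
    rwa [Fin.append_left] at this
  have hgE : ∀ i, (E i).ideal U = Ideal.span {g (Fin.natAdd r i)} := fun i => by
    have := hg (Fin.natAdd r i)
    rwa [Fin.append_right] at this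
  have hgu : ∀ j, IsUnit (g (Fin.natAdd r (i₀ j))) := by
    intro j
    rw [← Ideal.span_singleton_eq_top, ← hgE]
    exact K911.Ncd.ideal_eq_top_of_disjoint _ _ fun y hy hyi => Set.mem_iInter.mp (hUO hy).2 j hyi
  -- coefficients
  choose c hc using fun i => exists_coord he (s i)
  have hcI : ∀ i, ∃ u : Γ(X, U.1)ˣ, g (Fin.castAdd n (a i)) * g (Fin.natAdd r i) * u = c i := by
    intro i
    have h1 := Groth.Agent.Pi1C.ZeroScheme.ideal_eq_span (s i) hPinv U (isGen_lp he P) (hc i)
    rw [hs, Scheme.IdealSheafData.ideal_mul, Pi.mul_apply, hgD, hgE, Ideal.span_singleton_mul_span_singleton,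
      Ideal.span_singleton_eq_span_singleton] at h1
    exact h1
  choose u hu using hcI
  obtain ⟨ct, hct⟩ := exists_coord hb t
  -- the equations
  let aa : Fin n → Γ(X, U.1) := fun i => g (Fin.natAdd r i) * u i
  have hcaa : ∀ i, c i = g (Fin.castAdd n (a i)) * aa i := fun i => by rw [← hu i]; ring
  have haau : ∀ j, IsUnit (aa (i₀ j)) := fun j => (hgu j).mul (u (i₀ j)).isUnit
  choose ai hai using fun j => (haau j).exists_right_inv
  let T : Fin (r + n) → Γ(X, U.1) := Fin.append (fun j => c (i₀ j)) (fun i => aa i * ai (a i))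
  have hTD : ∀ j, (D j).ideal U = Ideal.span {c (i₀ j)} := by
    intro j
    rw [hgD, hcaa, ha, Ideal.span_singleton_eq_span_singleton]
    exact (associated_mul_isUnit_right_iff (haau j)).mpr (Associated.refl _)
  have hTE : ∀ i, (E i).ideal U = Ideal.span {aa i * ai (a i)} := by
    intro i
    have h1 : IsUnit (ai (a i)) := IsUnit.of_mul_eq_one _ ((mul_comm _ _).trans (hai (a i)))
    rw [hgE, Ideal.span_singleton_eq_span_singleton]
    exact ((associated_mul_isUnit_right_iff h1).mpr ((associated_mul_isUnit_right_iff (u i).isUnit).mpr (Associated.refl _)))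
  have hT : ∀ i, ((Fin.append D E) i).ideal U = Ideal.span {T i} := by
    intro i
    refine Fin.addCases (fun j => ?_) (fun i => ?_) i
    · rw [Fin.append_left]
      simp only [T, Fin.append_left]
      exact hTD j
    · rw [Fin.append_right]
      simp only [T, Fin.append_right]
      exact hTE i
  obtain ⟨W, hWU, d, v, ee, hxW, hv, hinj, hunit, hcoord⟩ := K27.Adapted.exists_adapted f hDE U x hxU T hT
  have hneW : Nonempty W.1 := ⟨⟨x, hxW⟩⟩
  have hTc : ∀ j, T (Fin.castAdd n j) = c (i₀ j) := fun j => by simp only [T, Fin.append_left]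
  have hTe : ∀ i, T (Fin.natAdd r i) = aa i * ai (a i) := fun i => by simp only [T, Fin.append_right]
  -- the unit
  obtain ⟨τ, hτ⟩ : ∃ τ : Γ(X, U.1)ˣ, (τ : Γ(X, U.1)) * ∏ j, c (i₀ j) ^ α j = ct := by
    have h1 := span_coord ht U hb hct
    have h2 : (CycCov.divIdeal D α).ideal U = Ideal.span {∏ j, c (i₀ j) ^ α j} := by
      unfold CycCov.divIdeal
      rw [K926.Loc.ideal_prod]
      rw [← Ideal.prod_span_singleton]
      refine Finset.prod_congr rfl fun j _ => ?_
      rw [Scheme.IdealSheafData.ideal_pow, Pi.pow_apply, hTD, Ideal.span_singleton_pow]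
    rw [h2, Ideal.span_singleton_eq_span_singleton] at h1
    obtain ⟨τ, hτ⟩ := h1.symm
    exact ⟨τ, by rw [mul_comm]; exact hτ⟩
  -- the function field
  have hFinj : Function.Injective (algebraMap Γ(X, U.1) X.functionField) := X.germToFunctionField_injective U.1
  obtain ⟨w, hw, hw'⟩ := exists_compare he₀ he
  obtain ⟨wB, hwB, hwB'⟩ := exists_compare hb₀ hb
  have hc0 : ∀ j, algebraMap Γ(X, U.1) X.functionField (c (i₀ j)) ≠ 0 := by
    intro j
    rw [map_ne_zero_iff _ hFinj, hcaa]
    exact mul_ne_zero (nonZeroDivisors.ne_zero (hgn _)) (haau j).ne_zero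
  obtain ⟨ρ, h1, h2, h3, hadj⟩ := K27.RootAlg.exists_rho a i₀ ha Nj P q hq
    (fun i => algebraMap Γ(X, U₀) X.functionField (γ i)) (fun i => algebraMap Γ(X, U.1) X.functionField (c i)) w hw
    (fun i => hw' P (s i) _ _ (hγ i) (hc i)) hc0 R hR N α hα (algebraMap Γ(X, U.1) X.functionField τ)
    (algebraMap Γ(X, U₀) X.functionField γt) (algebraMap Γ(X, U.1) X.functionField ct) wB hwB
    (hwB' N t _ _ hγt hct) (by rw [← hτ, map_mul, map_prod]; simp only [map_pow]) hNj S hS
  let idx : Fin n → Fin (r + n) := fun i => if i = i₀ (a i) then Fin.castAdd n (a i) else Fin.natAdd r i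
  have hidx1 : ∀ i, i = i₀ (a i) → idx i = Fin.castAdd n (a i) := fun i hi => if_pos hi
  have hidx2 : ∀ i, i ≠ i₀ (a i) → idx i = Fin.natAdd r i := fun i hi => if_neg hi
  have hidx : Function.Injective idx := by
    intro i i' h
    by_cases hi : i = i₀ (a i) <;> by_cases hi' : i' = i₀ (a i')
    · rw [hidx1 i hi, hidx1 i' hi'] at h
      rw [hi, hi', Fin.castAdd_injective _ _ h]
    · rw [hidx1 i hi, hidx2 i' hi'] at h
      exfalso
      have h5 := congrArg Fin.val h
      simp only [Fin.val_castAdd, Fin.val_natAdd] at h5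
      have h6 := (a i).2
      omega
    · rw [hidx2 i hi, hidx1 i' hi'] at h
      exfalso
      have h5 := congrArg Fin.val h
      simp only [Fin.val_castAdd, Fin.val_natAdd] at h5
      have h6 := (a i').2
      omega
    · rw [hidx2 i hi, hidx2 i' hi'] at h
      exact Fin.natAdd_injective _ _ h
  have hsp : ∀ j, i₀ j = i₀ (a (i₀ j)) := fun j => by rw [ha]
  have hidx0 : ∀ j, T (idx (i₀ j)) = c (i₀ j) := fun j => by
    rw [hidx1 _ (hsp j), hTc, ← hsp]
  refine ⟨W, hneW, d, n + 1, v, Fin.snoc (α := fun _ => ℕ) (fun i => Nj (a i)) N,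
    Fin.snoc (α := fun _ => Γ(X, W.1)) (fun i => ores hWU (T (idx i))) (ores hWU τ),
    Fin.snoc (α := fun _ => Option (Fin d)) (fun i => ee (idx i)) none, ρ, fun j => Fin.castSucc (i₀ j), hxW, hv,
    ?_, ?_, ?_, ?_, ?_, hadj hgen, ?_, ?_, ?_⟩
  · intro i
    refine Fin.lastCases ?_ (fun i => ?_) i
    · rw [Fin.snoc_last]; exact hN
    · rw [Fin.snoc_castSucc]; exact hNk _
  · intro i i' j
    refine Fin.lastCases ?_ (fun i => ?_) i
    · rw [Fin.snoc_last]
      intro h
      cases h
    · refine Fin.lastCases ?_ (fun i' => ?_) i'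
      · rw [Fin.snoc_last]
        intro _ h
        cases h
      · rw [Fin.snoc_castSucc, Fin.snoc_castSucc]
        intro h h'
        rw [hidx (hinj _ _ _ h h')]
  · intro i
    refine Fin.lastCases ?_ (fun i => ?_) i
    · rw [Fin.snoc_last, Fin.snoc_last]
      exact fun _ => τ.isUnit.map _
    · rw [Fin.snoc_castSucc, Fin.snoc_castSucc]
      exact hunit _
  · intro i j
    refine Fin.lastCases ?_ (fun i => ?_) i
    · rw [Fin.snoc_last]
      intro h
      cases h
    · rw [Fin.snoc_castSucc, Fin.snoc_castSucc]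
      exact hcoord _ _
  · intro i
    refine Fin.lastCases ?_ (fun i => ?_) i
    · rw [Fin.snoc_last, Fin.snoc_last, germ_ores]
      exact h3
    · rw [Fin.snoc_castSucc, Fin.snoc_castSucc, germ_ores]
      by_cases hi : i = i₀ (a i)
      · rw [hidx1 i hi, hTc, ← hi]
        exact h1 i hi
      · rw [hidx2 i hi, hTe, h2 i hi]
        congr 1
        have h4 : algebraMap Γ(X, U.1) X.functionField (aa (i₀ (a i))) * algebraMap Γ(X, U.1) X.functionField (ai (a i)) = 1 := by
          rw [← map_mul, hai, map_one]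
        have e1 : algebraMap Γ(X, U.1) X.functionField (c i) =
            algebraMap Γ(X, U.1) X.functionField (g (Fin.castAdd n (a i))) * algebraMap Γ(X, U.1) X.functionField (aa i) :=
          (congrArg _ (hcaa i)).trans (map_mul _ _ _)
        have e2 : algebraMap Γ(X, U.1) X.functionField (c (i₀ (a i))) =
            algebraMap Γ(X, U.1) X.functionField (g (Fin.castAdd n (a i))) *
              algebraMap Γ(X, U.1) X.functionField (aa (i₀ (a i))) := by
          rw [hcaa (i₀ (a i)), ha]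
          exact map_mul _ _ _
        have e3 : algebraMap Γ(X, U.1) X.functionField (aa i * ai (a i)) =
          algebraMap Γ(X, U.1) X.functionField (aa i) * algebraMap Γ(X, U.1) X.functionField (ai (a i)) := map_mul _ _ _
        rw [div_eq_iff (hc0 _), e1, e2, e3]
        linear_combination (-(algebraMap Γ(X, U.1) X.functionField (g (Fin.castAdd n (a i))) *
          algebraMap Γ(X, U.1) X.functionField (aa i))) * h4
  · intro j j' h
    have h5 := Fin.castSucc_injective _ h
    rw [← ha j, ← ha j', h5]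
  · intro j
    rw [Fin.snoc_castSucc, hidx0]
    exact K27.Crit.ideal_res (D j) hWU _ (hTD j)
  · intro j
    rw [Fin.snoc_castSucc, ha]

end K27.LocalChart
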